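import Groth.Agent.AlgSpSpec.Closed
import Groth.Agent.AlgSpB.IdealApprox.Main
import Groth.Agent.AlgSp.LimEvFinite
import Groth.Agent.AlgSp.LimAffine
import Groth.Agent.AlgSp.NormQf

/-!
# Finite morphisms as limits of finite morphisms of finite presentation
-/

universe u

open CategoryTheory CategoryTheory.Limits AlgebraicGeometry Opposite

set_option backward.isDefEq.respectTransparency false
set_option backward.isDefEq.respectTransparency.types false
set_option autoImplicit false

namespace Groth.Agent.AlgSpSpec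

open _root_.AlgSp

variable {S : Scheme.{u}}

/-- An affine morphism is separated. -/
theorem isSeparatedMor_of_affine {P Y : Sp S} (hP : IsAlgSpace P) {ν : P ⟶ Y} (hν : RepWith @IsAffineHom ν) :
    IsSeparatedMor ν :=
  (Groth.Agent.AlgSp.repWith_diagonal_iff_of_representable @IsClosedImmersion @IsSeparated
    (fun h => (isSeparated_iff h).symm) hP hν.1).2
    ⟨hν.1, fun _ _ g fst snd sq => haveI : IsAffineHom snd.left := hν.2 g fst snd sq; (inferInstance : IsSeparated snd.left)⟩

/-- A space affine over a qcqs space is qcqs. -/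
theorem qcqs_of_affine [QuasiSeparatedSpace ↥S] {P Y : Sp S} (hP : IsAlgSpace P) (hY : IsAlgSpace Y) {ν : P ⟶ Y}
    (hν : RepWith @IsAffineHom ν) (hqc : IsQuasiCompactSp Y) (hqs : IsQuasiSeparatedSp Y) :
    IsQuasiCompactSp P ∧ IsQuasiSeparatedSp P := by
  have hq : IsQuasiCompactMor ν := Groth.Agent.AlgSp.isQuasiCompactMor_of_repWith hY
    (Groth.Agent.AlgSp.repWith_mono (fun g (_ : IsAffineHom g) => (inferInstance : QuasiCompact g)) hν)
  refine ⟨hq hY hqc (𝟙 Y) (𝟙 P) ν (IsPullback.of_horiz_isIso ⟨by simp⟩), ?_⟩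
  exact Groth.Agent.AlgSp.LimAffine.isQuasiSeparatedSp_of_mor ν
    (Groth.Agent.AlgSp.isQuasiSeparatedMor_of_sep (isSeparatedMor_of_affine hP hν)) hqs

/-- An affine morphism which is locally of finite presentation is of finite presentation. -/
theorem isFinitePresentationMor_of_affine {P Y : Sp S} (hP : IsAlgSpace P) (hY : IsAlgSpace Y) {ν : P ⟶ Y}
    (hν : RepWith @IsAffineHom ν) (hfp : RepWith @LocallyOfFinitePresentation ν) : IsFinitePresentationMor ν :=
  ⟨Groth.Agent.AlgSpCov.locP_of_repWith Groth.Agent.AlgSpCov.etaleLocal_locallyOfFinitePresentation hfp,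
    Groth.Agent.AlgSp.isQuasiCompactMor_of_repWith hY
      (Groth.Agent.AlgSp.repWith_mono (fun g (_ : IsAffineHom g) => (inferInstance : QuasiCompact g)) hν),
    Groth.Agent.AlgSp.isQuasiSeparatedMor_of_sep (isSeparatedMor_of_affine hP hν)⟩

set_option maxHeartbeats 1000000 in
/-- A finite morphism to a qcqs space is a limit of finite morphisms of finite presentation with closed
transition maps. -/
theorem exists_limit_finite [QuasiSeparatedSpace ↥S] {X : Sp S} {Y : Space S} {φ : X ⟶ Y.obj}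
    (hfin : IsFiniteMor φ) (hqc : IsQuasiCompactSp Y.obj) (hqs : IsQuasiSeparatedSp Y.obj) :
    ∃ (I : Type u) (_ : Preorder I) (_ : IsDirected I (fun a b => a ≤ b)) (_ : Nonempty I) (D : Iᵒᵖ ⥤ Sp S)
      (t : D ⟶ (Functor.const Iᵒᵖ).obj Y.obj) (c : Cone D) (_ : IsLimit c) (e : c.pt ≅ X),
      (∀ i, IsAlgSpace (D.obj i)) ∧ (∀ (i j : Iᵒᵖ) (φ : i ⟶ j), RepWith @IsClosedImmersion (D.map φ)) ∧
      (∀ i, IsFiniteMor (t.app i) ∧ IsFinitePresentationMor (t.app i)) ∧
      (∀ i, e.inv ≫ c.π.app i ≫ t.app i = φ) := by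
  obtain ⟨P, θ, νP, hθν, hP, hθ, hνa, hνp⟩ := exists_closed_affine_fp hfin hqc hqs
  obtain ⟨hPqc, hPqs⟩ := qcqs_of_affine hP Y.property hνa hqc hqs
  obtain ⟨I, instP, instD, instN, D, t, c, hc, e, hD, hcl, ht, htc⟩ :=
    AlgSpB.IdealApprox.exists_limit (Y := ⟨P, hP⟩) hPqc hPqs θ hθ
  have : IsDirectedOrder I := instD
  let tY : D ⟶ (Functor.const Iᵒᵖ).obj Y.obj :=
    { app := fun i => t.app i ≫ νP
      naturality := fun i j a => by
        change D.map a ≫ t.app j ≫ νP = (t.app i ≫ νP) ≫ 𝟙 _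
        rw [← Category.assoc, t.naturality]
        simp }
  have haff : ∀ i, RepWith @IsAffineHom (tY.app i) := fun i => Groth.Agent.AlgSpCov.repWith_comp
    (Groth.Agent.AlgSp.repWith_mono (fun g (_ : IsClosedImmersion g) => (inferInstance : IsAffineHom g)) (ht i).1) hνa
  have hlfp : ∀ i, RepWith @LocallyOfFinitePresentation (tY.app i) := fun i => Groth.Agent.AlgSpCov.repWith_comp
    (Groth.Agent.AlgSpCov.repWith_of_locP Groth.Agent.AlgSpCov.etaleLocal_locallyOfFinitePresentation (hD i) hP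
      (ht i).1.1 (ht i).2.1) hνp
  have hg : ∀ i, c.π.app i ≫ tY.app i = e.hom ≫ φ := fun i => by
    rw [← cancel_epi e.inv, e.inv_hom_id_assoc, ← hθν, ← htc i]
    simp [tY]
  have hqcqs := fun i => qcqs_of_affine (hD i) Y.property (haff i) hqc hqs
  have hint : RepWith @IsIntegralHom (e.hom ≫ φ) := by
    have hφ : RepWith @IsIntegralHom φ := Groth.Agent.AlgSp.repWith_mono
      (fun g (_ : IsFinite g) => (inferInstance : IsIntegralHom g)) ((Groth.Agent.AlgSpCov.isFiniteMor_iff φ).1 hfin)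
    exact ((RepWith (S := S) @IsIntegralHom).cancel_left_of_respectsIso e.hom φ).2 hφ
  obtain ⟨i₀, hi₀⟩ := Groth.Agent.AlgSp.LimEvFinite.eventually_finite tY hD
    (fun i j a => Groth.Agent.AlgSp.repWith_mono (fun g (_ : IsClosedImmersion g) => (inferInstance : IsFinite g))
      (hcl i j a)) hc hg Y.property hqs (fun i => (hqcqs i).1) (fun i => (hqcqs i).2) hqc
    (fun i => Groth.Agent.AlgSpCov.locP_of_repWith Groth.Agent.AlgSpCov.etaleLocal_locallyOfFiniteType
      (Groth.Agent.AlgSp.repWith_mono (fun g (_ : LocallyOfFinitePresentation g) =>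
        (inferInstance : LocallyOfFiniteType g)) (hlfp i))) hint
  -- restrict to the stages above `i₀`
  let J := {i : I // i₀.unop ≤ i}
  let F : Jᵒᵖ ⥤ Iᵒᵖ := (Monotone.functor (f := fun j : J => j.1) fun _ _ h => h).op
  have hJ : IsDirected J (fun a b => a ≤ b) := ⟨fun a b => by
    obtain ⟨k, h1, h2⟩ := exists_ge_ge a.1 b.1
    exact ⟨⟨k, a.2.trans h1⟩, h1, h2⟩⟩
  have hfinal : ∀ i : I, ∃ j : J, i ≤ j.1 := fun i => by
    obtain ⟨k, h1, h2⟩ := exists_ge_ge i i₀.unop
    exact ⟨⟨k, h2⟩, h1⟩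
  choose k hk using hfinal
  have hcw : ∀ (s : Cone (F ⋙ D)) (a b : J) (i : I) (ha : i ≤ a.1) (hb : i ≤ b.1),
      s.π.app (op a) ≫ D.map (homOfLE ha).op = s.π.app (op b) ≫ D.map (homOfLE hb).op := by
    intro s a b i ha hb
    obtain ⟨m, h1, h2⟩ := hJ.directed a b
    rw [← s.w (homOfLE h1).op, ← s.w (homOfLE h2).op, Category.assoc, Category.assoc, Functor.comp_map,
      Functor.comp_map, ← D.map_comp, ← D.map_comp]
    exact congrArg (fun x => s.π.app (op m) ≫ D.map x) (Subsingleton.elim _ _)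
  let ext : Cone (F ⋙ D) → Cone D := fun s =>
    { pt := s.pt
      π :=
        { app := fun i => s.π.app (op (k i.unop)) ≫ D.map (homOfLE (hk i.unop)).op
          naturality := fun i j a => by
            dsimp only [Functor.const_obj_obj, Functor.const_obj_map]
            rw [Category.id_comp, Category.assoc, ← D.map_comp]
            exact (hcw s (k j.unop) (k i.unop) j.unop (hk _) ((leOfHom a.unop).trans (hk _))).trans
              (congrArg (fun x => s.π.app _ ≫ D.map x) (Subsingleton.elim _ _)) } }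
  let c' : Cone (F ⋙ D) := c.whisker F
  have hc' : IsLimit c' :=
    { lift := fun s => hc.lift (ext s)
      fac := fun s a => by
        change hc.lift (ext s) ≫ c.π.app (op a.unop.1) = _
        rw [hc.fac]
        exact (hcw s (k a.unop.1) a.unop a.unop.1 (hk _) le_rfl).trans
          ((congrArg (fun x => s.π.app a ≫ D.map x)
            (Subsingleton.elim (homOfLE (le_refl a.unop.1)).op (𝟙 (F.obj a)))).trans
            ((congrArg (s.π.app a ≫ ·) (D.map_id _)).trans (Category.comp_id _)))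
      uniq := fun s m hm => hc.uniq (ext s) m fun i => by
        change m ≫ c.π.app i = s.π.app (op (k i.unop)) ≫ D.map (homOfLE (hk i.unop)).op
        rw [← hm (op (k i.unop)), Category.assoc, ← c.w (homOfLE (hk i.unop)).op]
        rfl }
  refine ⟨J, inferInstance, hJ, ⟨⟨i₀.unop, le_rfl⟩⟩, F ⋙ D, Functor.whiskerLeft F tY, c', hc', e,
    fun _ => hD _, fun _ _ a => hcl _ _ (F.map a), fun j => ⟨?_, isFinitePresentationMor_of_affine (hD _) Y.property
      (haff _) (hlfp _)⟩, fun j => ?_⟩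
  · exact (Groth.Agent.AlgSpCov.isFiniteMor_iff _).2 (hi₀ (F.obj j) (homOfLE j.unop.2).op)
  · change e.inv ≫ c.π.app (F.obj j) ≫ tY.app (F.obj j) = φ
    rw [hg, e.inv_hom_id_assoc]

end Groth.Agent.AlgSpSpec
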