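import Groth.Agent.AlgSpSpec.System
import Groth.Agent.AlgSpCov.Listed
import Groth.Agent.AlgSpEN.ZMT.SubAlg

/-!
# Properties of the stages; finite stages of an integral morphism
-/

universe u

open CategoryTheory CategoryTheory.Limits AlgebraicGeometry Opposite

set_option backward.isDefEq.respectTransparency false
set_option backward.isDefEq.respectTransparency.types false
set_option autoImplicit false

namespace Groth.Agent.AlgSpSpec

open _root_.AlgSp
open Groth.Agent.AlgSp.CartierDesc (subOver subι)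
open Groth.Agent.AlgSpQC

variable {S : Scheme.{u}}

namespace Basic

variable {Y : Space S} {X : Sp S} {f : X ⟶ Y.obj} {B : Basic Y X f}

theorem repWith_str_affine (n : B.Node) : RepWith @IsAffineHom (inc n ≫ B.base n.1) :=
  AlgSpCov.repWith_comp (Groth.Agent.AlgSp.repWith_mono
    (fun g (_ : IsClosedImmersion g) => (inferInstance : IsAffineHom g)) (closed_inc n)) (B.affine_base n.1)

theorem repWith_str_lfp [QuasiSeparatedSpace ↥S] (n : B.Node) :
    RepWith @LocallyOfFinitePresentation (inc n ≫ B.base n.1) := by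
  have h := AlgSpB.IdealApprox.isFinitePresentationMor_of_fg (Y := ⟨B.W n.1, B.isAlgSpace_W n.1⟩) (B.etale_pT n.1)
    (B.surjective_pT n.1) (closed_inc n) (isPullback_C n) n.2.2.1
  exact AlgSpCov.repWith_comp (AlgSpCov.repWith_of_locP AlgSpCov.etaleLocal_locallyOfFinitePresentation
    (isAlgSpace_Z n) (B.isAlgSpace_W n.1) (closed_inc n).1 h.1) (B.lfp_base n.1)

theorem fp_str [QuasiSeparatedSpace ↥S] (n : B.Node) : IsFinitePresentationMor (inc n ≫ B.base n.1) :=
  isFinitePresentationMor_of_affine (isAlgSpace_Z n) Y.property (repWith_str_affine n) (repWith_str_lfp n)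

theorem isPullback_str (n : B.Node) :
    IsPullback (pC n) ((yon S).map (subι (B.T n.1) n.2.1 ≫ B.qT n.1)) (inc n ≫ B.base n.1) B.p₀ := by
  rw [Functor.map_comp]
  exact (isPullback_C n).paste_vert (B.isPullback_T n.1)

theorem repWith_str (n : B.Node) (P : MorphismProperty Scheme.{u}) [P.IsStableUnderBaseChange]
    [P.IsLocalAtTarget Scheme.fppfPrecoverage] (h : P (subι (B.T n.1) n.2.1 ≫ B.qT n.1).left) :
    RepWith P (inc n ≫ B.base n.1) := by
  have := Groth.Agent.AlgSp.isLocallySurjective_of_etale_surjective B.p₀ B.E₀.E.property B.surj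
  exact Groth.Agent.AlgSp.repWith_of_isPullback_of_isLocallySurjective _ (repWith_str_affine n).1 _ _ _
    (isPullback_str n) P ((repWith_yon_map_iff P _).2 h)

set_option maxHeartbeats 1000000 in
/-- For an integral morphism the finite stages are cofinal. -/
theorem exists_finite_ge [QuasiSeparatedSpace ↥S] (hint : IsIntegralMor f) (n : B.Node) :
    ∃ m, n ≤ m ∧ RepWith @IsFinite (inc m ≫ B.base m.1) := by
  classical
  have hq : IsAffineHom (B.qT n.1).left := isAffineHom_of_isAffine _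
  have hqfp : LocallyOfFinitePresentation (B.qT n.1).left := (B.lfp_base n.1).2 _ _ _ (B.isPullback_T n.1)
  have hft : (B.qT n.1).left.appTop.hom.FiniteType :=
    (HasRingHomProperty.iff_of_isAffine (P := @LocallyOfFiniteType)).1 (inferInstance)
  have hbc : (EtOver.bcπ B.rep B.E₀.E).left.appTop.hom.IsIntegral :=
    Groth.Agent.AlgSpEN.ZMT.isIntegral_gπ B.rep hint B.E₀.E
  letI := (B.qT n.1).left.appTop.hom.toAlgebra
  obtain ⟨s, hs⟩ := (hft : Algebra.FiniteType Γ(B.U.left, ⊤) Γ((B.T n.1).left, ⊤)).out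
  choose p hpm hp using fun y : Γ((B.T n.1).left, ⊤) => hbc ((B.d n.1).left.appTop y)
  let k : Γ((B.T n.1).left, ⊤) → Γ((B.T n.1).left, ⊤) := fun y => (p y).eval₂ (B.qT n.1).left.appTop.hom y
  have hk : ∀ y ∈ s.image k, (B.d n.1).left.appTop y = 0 := fun z hz => by
    obtain ⟨y, -, rfl⟩ := Finset.mem_image.1 hz
    change (B.d n.1).left.appTop.hom _ = 0
    rw [Polynomial.hom_eval₂, ← CommRingCat.hom_comp, ← Scheme.Hom.comp_appTop, ← Over.comp_left, B.d_qT]
    exact hp y
  obtain ⟨⟨s', J⟩, hnm, hs', hJ⟩ := exists_ge_of_le n (fg_ofIdealTop_span (s.image k))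
    (ofIdealTop_le_ker (B.d n.1).left hk)
  cases hs'
  refine ⟨_, hnm, repWith_str ⟨n.1, J⟩ @IsFinite ?_⟩
  let ι : (subOver (B.T n.1) J.1).left ⟶ (B.T n.1).left := J.1.subschemeι
  have hzero : ∀ y ∈ s, ι.appTop (k y) = 0 := fun y hy => appTop_eq_zero_of_mem J.1
    (hJ _ ((Scheme.IdealSheafData.equivOfIsAffine.apply_symm_apply
      (Ideal.span ((s.image k : Finset Γ((B.T n.1).left, ⊤)) : Set Γ((B.T n.1).left, ⊤)))).ge
      (Ideal.subset_span (Finset.mem_image_of_mem k hy))))
  have : IsAffine (subOver (B.T n.1) J.1).left := isAffine_C (B := B) ⟨n.1, J⟩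
  change IsFinite (ι ≫ (B.qT n.1).left)
  refine (HasAffineProperty.iff_of_isAffine (P := @IsFinite)).2 ⟨inferInstance, ?_⟩
  rw [Scheme.Hom.comp_appTop, CommRingCat.hom_comp]
  have hsurj : Function.Surjective ι.appTop.hom := fun z => ι.app_surjective ⊤ (isAffineOpen_top _) z
  refine RingHom.IsIntegral.to_finite (fun z => ?_) ((RingHom.FiniteType.of_surjective _ hsurj).comp hft)
  obtain ⟨y, rfl⟩ := hsurj z
  letI := (ι.appTop.hom.comp (B.qT n.1).left.appTop.hom).toAlgebra
  let φ : Γ((B.T n.1).left, ⊤) →ₐ[Γ(B.U.left, ⊤)] Γ((subOver (B.T n.1) J.1).left, ⊤) :=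
    { ι.appTop.hom with commutes' := fun _ => rfl }
  change IsIntegral Γ(B.U.left, ⊤) (φ y)
  have hle : Algebra.adjoin Γ(B.U.left, ⊤) (s : Set Γ((B.T n.1).left, ⊤)) ≤
      (integralClosure Γ(B.U.left, ⊤) Γ((subOver (B.T n.1) J.1).left, ⊤)).comap φ := by
    refine Algebra.adjoin_le fun a ha => ?_
    refine ⟨p a, hpm a, ?_⟩
    refine Eq.trans ?_ (hzero a ha)
    exact (Polynomial.hom_eval₂ (p a) (B.qT n.1).left.appTop.hom ι.appTop.hom a).symm
  exact hle (hs ▸ Algebra.mem_top)

end Basic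

/-- An affine morphism to a qcqs space is a limit of affine morphisms of finite presentation. -/
theorem exists_limit_affine [QuasiSeparatedSpace ↥S] {X : Sp S} {Y : Space S} {f : X ⟶ Y.obj}
    (haff : IsAffineMor f) (hqc : IsQuasiCompactSp Y.obj) (hqs : IsQuasiSeparatedSp Y.obj)
    {Good : ∀ B : Basic Y X f, B.Node → Prop} (hcof : ∀ B n, ∃ m, n ≤ m ∧ Good B m) :
    ∃ (B : Basic Y X f), IsDirected {n : B.Node // Good B n} (fun a b => a ≤ b) ∧
      Nonempty {n : B.Node // Good B n} ∧ Nonempty (IsLimit (B.systemCone (Good B))) := by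
  obtain ⟨B⟩ := exists_basic haff hqc hqs
  exact ⟨B, Basic.directed_good (hcof B), Basic.nonempty_good (hcof B), Basic.isLimit_system (hcof B)⟩

theorem affine_systemMap {Y : Space S} {X : Sp S} {f : X ⟶ Y.obj} {B : Basic Y X f} {Good : B.Node → Prop}
    {a b : {n : B.Node // Good n}ᵒᵖ} (φ : a ⟶ b) : IsAffineMor ((B.system Good).map φ) :=
  (Groth.Agent.AlgSp.isAffineMor_iff _).2 (Basic.repWith_trZ_affine (leOfHom φ.unop))

end Groth.Agent.AlgSpSpec
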