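import Mathlib.RingTheory.RingHom.Finite
import Mathlib.RingTheory.RingHom.FinitePresentation
import Mathlib.RingTheory.FiniteStability
import Mathlib.RingTheory.Localization.Away.Basic

/-!
# Making a stage agree with a finitely presented algebra after inverting an element
-/

universe u

set_option autoImplicit false

namespace Groth.Agent.AlgSpSpec.Kill

open IsLocalization

variable {A R B : Type u} [CommRing A] [CommRing R] [CommRing B] {g : A →+* B} {q : A →+* R} {ψ : R →+* B}
  (a : A) (Aa Ba : Type u) [CommRing Aa] [CommRing Ba] [Algebra A Aa] [Algebra B Ba] [IsLocalization.Away a Aa]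
  [IsLocalization.Away (g a) Ba]

/-- Finitely many elements generate after inverting. -/
theorem exists_generators (h : (IsLocalization.Away.map Aa Ba g a).Finite) :
    ∃ s : Finset B, ∀ {R : Type u} [CommRing R] (q : A →+* R) (ψ : R →+* B), ψ.comp q = g →
      (∀ b ∈ s, b ∈ ψ.range) → ∀ b : B, ∃ (N : ℕ) (r : R), ψ r = g a ^ N * b := by
  classical
  let _ := (IsLocalization.Away.map Aa Ba g a).toAlgebra
  have : Module.Finite Aa Ba := h
  obtain ⟨n, e, he⟩ := Module.Finite.exists_fin (R := Aa) (M := Ba)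
  choose k y hy using fun i => IsLocalization.Away.surj (g a) (e i)
  refine ⟨Finset.univ.image y, fun {R} _ q ψ hψ hs b => ?_⟩
  have key : ∀ z ∈ Submodule.span Aa (Set.range e), ∃ (N : ℕ) (r : R),
      algebraMap B Ba (ψ r) = algebraMap B Ba (g a ^ N) * z := by
    intro z hz
    induction hz using Submodule.span_induction with
    | mem x hx =>
      obtain ⟨i, rfl⟩ := hx
      obtain ⟨r, hr⟩ := hs (y i) (Finset.mem_image_of_mem y (Finset.mem_univ i))
      exact ⟨k i, r, by rw [hr, ← hy i, map_pow, mul_comm]⟩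
    | zero => exact ⟨0, 0, by simp⟩
    | add x x' _ _ hx hx' =>
      obtain ⟨N, r, hr⟩ := hx
      obtain ⟨N', r', hr'⟩ := hx'
      refine ⟨N + N', q a ^ N' * r + q a ^ N * r', ?_⟩
      have e1 : ψ (q a) = g a := RingHom.congr_fun hψ a
      simp only [map_add, map_mul, map_pow, e1, hr, hr', pow_add]
      ring
    | smul c x _ hx =>
      obtain ⟨N, r, hr⟩ := hx
      obtain ⟨j, c₀, hc⟩ := IsLocalization.Away.surj a c
      refine ⟨N + j, q c₀ * r, ?_⟩
      have hcB : IsLocalization.Away.map Aa Ba g a c * algebraMap B Ba (g a) ^ j = algebraMap B Ba (g c₀) := by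
        have := congrArg (IsLocalization.Away.map Aa Ba g a) hc
        rwa [map_mul, map_pow, IsLocalization.Away.map, IsLocalization.map_eq, IsLocalization.map_eq] at this
      rw [map_mul, map_mul, show ψ (q c₀) = g c₀ from RingHom.congr_fun hψ c₀, ← hcB, hr, Algebra.smul_def,
        show algebraMap Aa Ba c = IsLocalization.Away.map Aa Ba g a c from rfl, pow_add, map_mul, map_pow, map_pow]
      ring
  obtain ⟨N, r, hr⟩ := key (algebraMap B Ba b) (he ▸ trivial)
  rw [← map_mul] at hr
  obtain ⟨⟨_, m, rfl⟩, hm⟩ := (IsLocalization.eq_iff_exists (.powers (g a)) Ba).1 hr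
  refine ⟨m + N, q a ^ m * r, ?_⟩
  rw [map_mul, map_pow, show ψ (q a) = g a from RingHom.congr_fun hψ a, pow_add, mul_assoc]
  exact hm

/-- Finitely many elements generate the kernel after inverting. -/
theorem exists_kernel (hq : q.FinitePresentation) (h : (IsLocalization.Away.map Aa Ba g a).FinitePresentation)
    (hψ : ψ.comp q = g) (hsurj : ∀ b : B, ∃ (N : ℕ) (r : R), ψ r = g a ^ N * b) :
    ∃ z : Finset R, (∀ x ∈ z, ψ x = 0) ∧ ∀ r : R, ψ r = 0 → ∃ N : ℕ, q a ^ N * r ∈ Ideal.span (z : Set R) := by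
  classical
  have hqa : ψ (q a) = g a := RingHom.congr_fun hψ a
  let Ra := Localization.Away (q a)
  have : IsLocalization.Away (ψ (q a)) Ba := by rw [hqa]; infer_instance
  let qa := IsLocalization.Away.map Aa Ra q a
  let ψa := IsLocalization.Away.map Ra Ba ψ (q a)
  have hψa : ψa.comp qa = IsLocalization.Away.map Aa Ba g a := by
    refine IsLocalization.ringHom_ext (.powers a) (RingHom.ext fun x => ?_)
    simp only [RingHom.comp_apply, qa, ψa, IsLocalization.Away.map, IsLocalization.map_eq]
    exact congrArg _ (RingHom.congr_fun hψ x)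
  have hqfp : qa.FinitePresentation := RingHom.finitePresentation_localizationPreserves.away q a Aa Ra hq
  let _ := qa.toAlgebra
  let _ := (IsLocalization.Away.map Aa Ba g a).toAlgebra
  have : Algebra.FinitePresentation Aa Ra := hqfp
  have : Algebra.FinitePresentation Aa Ba := h
  let φ : Ra →ₐ[Aa] Ba := { ψa with commutes' := fun c => RingHom.congr_fun hψa c }
  have hφ : Function.Surjective φ := fun z => by
    obtain ⟨j, b, hb⟩ := IsLocalization.Away.surj (g a) z
    obtain ⟨N, r, hr⟩ := hsurj b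
    have hu : IsUnit (algebraMap R Ra (q a)) := IsLocalization.Away.algebraMap_isUnit (q a)
    refine ⟨↑(hu.pow (N + j)).unit⁻¹ * algebraMap R Ra r, (IsUnit.mul_left_cancel
      ((IsLocalization.Away.algebraMap_isUnit (S := Ba) (g a)).pow (N + j)) ?_)⟩
    have e1 : φ (algebraMap R Ra (q a) ^ (N + j)) = algebraMap B Ba (g a) ^ (N + j) := by
      rw [map_pow]
      refine congrArg (· ^ (N + j)) ?_
      change ψa (algebraMap R Ra (q a)) = _
      simp only [ψa, IsLocalization.Away.map, IsLocalization.map_eq, hqa]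
    rw [← e1, ← map_mul, ← mul_assoc, IsUnit.mul_val_inv, one_mul, e1]
    change ψa (algebraMap R Ra r) = _
    simp only [ψa, IsLocalization.Away.map, IsLocalization.map_eq]
    rw [hr, map_mul, map_pow, pow_add, ← hb]
    ring
  obtain ⟨G, hG⟩ := Algebra.FinitePresentation.ker_fG_of_surjective φ hφ
  choose k r hr using fun x : Ra => IsLocalization.Away.surj (q a) x
  have hker : ∀ x ∈ G, ∃ m : ℕ, g a ^ m * ψ (r x) = 0 := fun x hx => by
    have hx0 : ψa x = 0 := RingHom.mem_ker.1 (hG.le (Ideal.subset_span hx))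
    have := congrArg ψa (hr x)
    rw [map_mul, hx0, zero_mul] at this
    simp only [ψa, IsLocalization.Away.map, IsLocalization.map_eq] at this
    obtain ⟨⟨_, m, rfl⟩, hm⟩ := (IsLocalization.map_eq_zero_iff (.powers (g a)) Ba _).1 this.symm
    exact ⟨m, hm⟩
  choose m hm using hker
  let w : Ra → R := fun x => if hx : x ∈ G then q a ^ m x hx * r x else 0
  refine ⟨G.image w, fun y hy => ?_, fun y hy => ?_⟩
  · obtain ⟨x, hx, rfl⟩ := Finset.mem_image.1 hy
    simp only [w, dif_pos hx, map_mul, map_pow, hqa]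
    exact hm x hx
  · have hy' : algebraMap R Ra y ∈ RingHom.ker φ.toRingHom := by
      rw [RingHom.mem_ker]
      change ψa (algebraMap R Ra y) = 0
      simp only [ψa, IsLocalization.Away.map, IsLocalization.map_eq, hy, map_zero]
    have hle : RingHom.ker φ.toRingHom ≤ (Ideal.span (G.image w : Set R)).map (algebraMap R Ra) := by
      rw [← hG]
      refine Ideal.span_le.2 fun x hx => ?_
      have hu : IsUnit (algebraMap R Ra (q a) ^ (m x hx + k x)) :=
        (IsLocalization.Away.algebraMap_isUnit (q a)).pow _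
      refine (Ideal.unit_mul_mem_iff_mem _ hu).1 ?_
      rw [pow_add, mul_assoc, mul_comm _ x, hr x, ← map_pow, ← map_mul]
      refine Ideal.mem_map_of_mem _ (Ideal.subset_span ?_)
      exact Finset.mem_coe.2 (Finset.mem_image.2 ⟨x, hx, dif_pos hx⟩)
    obtain ⟨⟨⟨y', hy''⟩, ⟨_, N, rfl⟩⟩, he⟩ :=
      (IsLocalization.mem_map_algebraMap_iff (.powers (q a)) Ra).1 (hle hy')
    rw [← map_mul] at he
    obtain ⟨⟨_, M, rfl⟩, hM⟩ := (IsLocalization.eq_iff_exists (.powers (q a)) Ra).1 he
    refine ⟨M + N, ?_⟩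
    dsimp only at hM
    rw [pow_add, mul_assoc, mul_comm (q a ^ N) y, hM]
    exact Ideal.mul_mem_left _ _ hy''

omit [IsLocalization.Away a Aa] in
/-- The criterion for an isomorphism after inverting. -/
theorem bijective_map {Rr : Type u} [CommRing Rr] [Algebra R Rr] (c : R) [IsLocalization.Away c Rr]
    (Bb : Type u) [CommRing Bb] [Algebra B Bb] [IsLocalization.Away (ψ c) Bb]
    (hsurj : ∀ b : B, ∃ (N : ℕ) (r : R), ψ r = ψ c ^ N * b) (hinj : ∀ r, ψ r = 0 → ∃ N : ℕ, c ^ N * r = 0) :
    Function.Bijective (IsLocalization.Away.map Rr Bb ψ c) := by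
  have hu : IsUnit (algebraMap R Rr c) := IsLocalization.Away.algebraMap_isUnit c
  refine ⟨(injective_iff_map_eq_zero _).2 fun x hx => ?_, fun z => ?_⟩
  · obtain ⟨k, r, hr⟩ := IsLocalization.Away.surj c x
    have h0 := congrArg (IsLocalization.Away.map Rr Bb ψ c) hr
    rw [map_mul, hx, zero_mul, IsLocalization.Away.map, IsLocalization.map_eq] at h0
    obtain ⟨⟨_, m, rfl⟩, hm⟩ := (IsLocalization.map_eq_zero_iff (.powers (ψ c)) Bb _).1 h0.symm
    obtain ⟨N, hN⟩ := hinj (c ^ m * r) (by rw [map_mul, map_pow]; exact hm)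
    refine (hu.pow (N + (m + k))).mul_left_cancel ?_
    rw [mul_zero, pow_add, pow_add, mul_assoc, mul_assoc, mul_comm _ x, hr, ← map_pow, ← map_pow, ← map_mul,
      ← map_mul, hN, map_zero]
  · obtain ⟨j, b, hb⟩ := IsLocalization.Away.surj (ψ c) z
    obtain ⟨N, r, hr⟩ := hsurj b
    refine ⟨↑(hu.pow (N + j)).unit⁻¹ * algebraMap R Rr r, (IsUnit.mul_left_cancel
      ((IsLocalization.Away.algebraMap_isUnit (S := Bb) (ψ c)).pow (N + j)) ?_)⟩
    have e1 : IsLocalization.Away.map Rr Bb ψ c (algebraMap R Rr c ^ (N + j)) = algebraMap B Bb (ψ c) ^ (N + j) := by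
      rw [map_pow, IsLocalization.Away.map, IsLocalization.map_eq]
    rw [← e1, ← map_mul, ← mul_assoc, IsUnit.mul_val_inv, one_mul, e1, IsLocalization.Away.map,
      IsLocalization.map_eq, hr, map_mul, map_pow, pow_add, ← hb]
    ring

end Groth.Agent.AlgSpSpec.Kill
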