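import Groth.Agent.AlgSpSpec.Stages
import Groth.Agent.AlgSpSpec.Kill

/-!
# Stages isomorphic to the source over an open
-/

universe u

open CategoryTheory CategoryTheory.Limits AlgebraicGeometry Opposite TopologicalSpace

set_option backward.isDefEq.respectTransparency false
set_option backward.isDefEq.respectTransparency.types false
set_option autoImplicit false

namespace Groth.Agent.AlgSpSpec

open _root_.AlgSp
open Groth.Agent.AlgSp.CartierDesc (subOver subι)
open Groth.Agent.AlgSpQC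

variable {S : Scheme.{u}}

/-- The map of sections over a basic open is a map of localizations. -/
theorem app_basicOpen_prop {X Y : Scheme.{u}} [IsAffine X] [IsAffine Y] (f : X ⟶ Y)
    {Q : ∀ {R S : Type u} [CommRing R] [CommRing S], (R →+* S) → Prop} (hQ : RingHom.RespectsIso @Q)
    (r : Γ(Y, ⊤)) :
    haveI := (isAffineOpen_top Y).isLocalization_basicOpen r
    haveI := (isAffineOpen_top X).isLocalization_basicOpen (f.appTop r)
    Q (f ∣_ Y.basicOpen r).appTop.hom ↔
      Q (IsLocalization.Away.map Γ(Y, Y.basicOpen r) Γ(X, X.basicOpen (f.appTop r)) f.appTop.hom r) := by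
  rw [morphismRestrict_appTop, CommRingCat.hom_comp, hQ.cancel_right_isIso]
  change Q (Scheme.Hom.app f ((Y.basicOpen r).ι ''ᵁ ⊤)).hom ↔ _
  rw [Scheme.Opens.ι_image_top]
  rw [(isAffineOpen_top Y).app_basicOpen_eq_away_map f (isAffineOpen_top X),
    CommRingCat.hom_comp, hQ.cancel_right_isIso]
  rfl

namespace Basic

/-- The chart of an affine morphism. -/
noncomputable abbrev gU {Y : Space S} {X : Sp S} {f : X ⟶ Y.obj} (B : Basic Y X f) : B.XU ⟶ B.U :=
  EtOver.bcπ B.rep B.E₀.E

variable {Y : Space S} {X : Sp S} {f : X ⟶ Y.obj} {B : Basic Y X f}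

/-- The algebra map of a stage. -/
noncomputable def qC (n : B.Node) : Γ(B.U.left, ⊤) →+* Γ((C n).left, ⊤) :=
  (subι (B.T n.1) n.2.1 ≫ B.qT n.1).left.appTop.hom

/-- The map of a stage to the functions of the source. -/
noncomputable def ψC (n : B.Node) : Γ((C n).left, ⊤) →+* Γ(B.XU.left, ⊤) := (dC n).left.appTop.hom

theorem ψC_qC (n : B.Node) : (ψC n).comp (qC n) = B.gU.left.appTop.hom := by
  change ((subι (B.T n.1) n.2.1 ≫ B.qT n.1).left.appTop ≫ (dC n).left.appTop).hom = _
  rw [← Scheme.Hom.comp_appTop, ← Over.comp_left, ← Category.assoc, dC_ι, B.d_qT]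

theorem range_ψC_mono {n m : B.Node} (h : n ≤ m) : (ψC n).range ≤ (ψC m).range := by
  rintro _ ⟨y, rfl⟩
  refine ⟨(trC h).left.appTop y, ?_⟩
  change ((trC h).left.appTop ≫ (dC m).left.appTop) y = _
  rw [← Scheme.Hom.comp_appTop, ← Over.comp_left, dC_trC]
  rfl

theorem exists_mem_range [QuasiSeparatedSpace ↥S] (n : B.Node) (b : Γ(B.XU.left, ⊤)) :
    ∃ m, n ≤ m ∧ b ∈ (ψC m).range := by
  classical
  obtain ⟨k, T, fst, snd, d, sT, hd, hd', a, ha⟩ := B.through b
  obtain ⟨nk, hnk⟩ := exists_node_finset (B := B) {k}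
  obtain ⟨m, h₀, hk⟩ := exists_ge n nk
  have hk' : k ∈ m.1 := hk.fst (hnk ▸ Finset.mem_singleton_self k)
  obtain ⟨p, hp⟩ := (yon S).map_surjective (sT.lift (B.pT m.1 ≫ FinProd.proj B.ν m.1 k hk')
    ((yon S).map (B.qT m.1)) (by rw [Category.assoc, FinProd.proj_ν]; exact (B.isPullback_T m.1).w))
  have hdp : B.d m.1 ≫ p = d := (yon S).map_injective (sT.hom_ext
    (by rw [Functor.map_comp, Category.assoc, hp, sT.lift_fst, ← Category.assoc, B.d_pT, Category.assoc,
      B.θW_proj]; exact hd'.symm)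
    (by rw [Functor.map_comp, Category.assoc, hp, sT.lift_snd, ← Functor.map_comp, ← Functor.map_comp,
      B.d_qT, hd]))
  refine ⟨m, h₀, (subι (B.T m.1) m.2.1 ≫ p).left.appTop a, ?_⟩
  change ((subι (B.T m.1) m.2.1 ≫ p).left.appTop ≫ (dC m).left.appTop) a = b
  rw [← Scheme.Hom.comp_appTop, ← Over.comp_left, reassoc_of% (dC_ι m), hdp, ha]

theorem exists_subset_range [QuasiSeparatedSpace ↥S] (n : B.Node) (s : Finset Γ(B.XU.left, ⊤)) :
    ∃ m, n ≤ m ∧ ∀ b ∈ s, b ∈ (ψC m).range := by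
  classical
  induction s using Finset.induction with
  | empty => exact ⟨n, le_rfl, by simp⟩
  | insert b t _ ih =>
    obtain ⟨m, hnm, hm⟩ := ih
    obtain ⟨m', hmm', hb⟩ := exists_mem_range m b
    exact ⟨m', hnm.trans hmm', fun c hc => by
      rcases Finset.mem_insert.1 hc with rfl | hc
      · exact hb
      · exact range_ψC_mono hmm' (hm c hc)⟩

/-- Stages isomorphic to the source after inverting `a`. -/
def IsoAt (n : B.Node) (a : Γ(B.U.left, ⊤)) : Prop :=
  (∀ b, ∃ (N : ℕ) (r : Γ((C n).left, ⊤)), ψC n r = B.gU.left.appTop a ^ N * b) ∧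
    ∀ r, ψC n r = 0 → ∃ N : ℕ, qC n a ^ N * r = 0

set_option maxHeartbeats 2000000 in
/-- Finite stages isomorphic to the source after inverting given elements are cofinal. -/
theorem exists_isoAt_ge [QuasiSeparatedSpace ↥S] (hint : IsIntegralMor f) (L : Finset Γ(B.U.left, ⊤))
    (hL : ∀ a ∈ L, IsFinite (B.gU.left ∣_ B.U.left.basicOpen a) ∧
      LocallyOfFinitePresentation (B.gU.left ∣_ B.U.left.basicOpen a)) (n : B.Node) :
    ∃ m, n ≤ m ∧ RepWith @IsFinite (inc m ≫ B.base m.1) ∧ ∀ a ∈ L, IsoAt m a := by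
  classical
  let g := B.gU.left
  have hloc : ∀ a ∈ L, (IsLocalization.Away.map Γ(B.U.left, B.U.left.basicOpen a)
        Γ(B.XU.left, B.XU.left.basicOpen (g.appTop a)) g.appTop.hom a).Finite ∧
      (IsLocalization.Away.map Γ(B.U.left, B.U.left.basicOpen a)
        Γ(B.XU.left, B.XU.left.basicOpen (g.appTop a)) g.appTop.hom a).FinitePresentation := fun a ha => by
    obtain ⟨hf, hp⟩ := hL a ha
    have hfa := ((HasAffineProperty.iff_of_isAffine (P := @IsFinite)
      (f := g ∣_ B.U.left.basicOpen a)).1 hf)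
    have : IsAffine (g ⁻¹ᵁ B.U.left.basicOpen a).toScheme := hfa.1
    exact ⟨(app_basicOpen_prop g RingHom.finite_respectsIso a).1 hfa.2,
      (app_basicOpen_prop g RingHom.finitePresentation_respectsIso a).1
        ((HasRingHomProperty.iff_of_isAffine (P := @LocallyOfFinitePresentation)
          (f := g ∣_ B.U.left.basicOpen a)).1 hp)⟩
  choose s hs using fun a : {a // a ∈ L} => Kill.exists_generators a.1 _ _ (hloc a.1 a.2).1
  obtain ⟨n₁, hn₁, hrange⟩ := exists_subset_range n (L.attach.biUnion s)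
  obtain ⟨m, hm, hfin⟩ := exists_finite_ge hint n₁
  have hsurj : ∀ a : {a // a ∈ L}, ∀ b, ∃ (N : ℕ) (r : Γ((C m).left, ⊤)), ψC m r = g.appTop a.1 ^ N * b :=
    fun a b => hs a (qC m) (ψC m) (ψC_qC m) (fun c hc => range_ψC_mono hm
      (hrange c (Finset.mem_biUnion.2 ⟨a, Finset.mem_attach _ a, hc⟩))) b
  have hqfp : (qC m).FinitePresentation := by
    have h : LocallyOfFinitePresentation (subι (B.T m.1) m.2.1 ≫ B.qT m.1).left :=
      (repWith_str_lfp m).2 _ _ _ (isPullback_str m)
    exact (HasRingHomProperty.iff_of_isAffine (P := @LocallyOfFinitePresentation)).1 h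
  choose z hz₀ hz using fun a : {a // a ∈ L} =>
    Kill.exists_kernel a.1 _ _ hqfp (hloc a.1 a.2).2 (ψC_qC m) (hsurj a)
  have hcl : IsClosedImmersion (subι (B.T m.1) m.2.1).left := inferInstanceAs (IsClosedImmersion m.2.1.subschemeι)
  choose lift hlift using fun r => (subι (B.T m.1) m.2.1).left.app_surjective ⊤ (isAffineOpen_top _) r
  obtain ⟨⟨s', J⟩, hmm', hs', hJ⟩ := exists_ge_of_le m (fg_ofIdealTop_span ((L.attach.biUnion z).image lift))
    (ofIdealTop_le_ker (B.d m.1).left fun y hy => by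
      obtain ⟨r, hr, rfl⟩ := Finset.mem_image.1 hy
      obtain ⟨a, -, ha⟩ := Finset.mem_biUnion.1 hr
      rw [← dC_ι, Over.comp_left, Scheme.Hom.comp_appTop]
      exact (congrArg (ψC m) (hlift r)).trans (hz₀ a r ha))
  cases hs'
  let m' : B.Node := ⟨m.1, J⟩
  have htr : trC hmm' ≫ subι (B.T m.1) m.2.1 = subι (B.T m.1) J.1 := by rw [trC_ι, tr_refl]; exact Category.comp_id _
  have hJcl : IsClosedImmersion (subι (B.T m.1) J.1).left := inferInstanceAs (IsClosedImmersion J.1.subschemeι)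
  have htrcl : IsClosedImmersion (trC hmm').left := by
    have : IsClosedImmersion ((trC hmm').left ≫ (subι (B.T m.1) m.2.1).left) := by
      rw [← Over.comp_left, htr]; exact hJcl
    exact IsClosedImmersion.of_comp _ (subι (B.T m.1) m.2.1).left
  refine ⟨m', hn₁.trans (hm.trans hmm'), ?_, fun a ha => ⟨fun b => ?_, fun r hr => ?_⟩⟩
  · refine repWith_str m' @IsFinite ?_
    have h : IsFinite (subι (B.T m.1) m.2.1 ≫ B.qT m.1).left := hfin.2 _ _ _ (isPullback_str m)
    have e : (subι (B.T m.1) J.1 ≫ B.qT m.1).left = (trC hmm').left ≫ (subι (B.T m.1) m.2.1 ≫ B.qT m.1).left := by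
      rw [← Over.comp_left, reassoc_of% htr]
    change IsFinite (subι (B.T m.1) J.1 ≫ B.qT m.1).left
    rw [e]
    infer_instance
  · obtain ⟨N, r, hr⟩ := hsurj ⟨a, ha⟩ b
    obtain ⟨r', hr'⟩ := range_ψC_mono hmm' ⟨r, rfl⟩
    exact ⟨N, r', hr'.trans hr⟩
  · obtain ⟨r₀, rfl⟩ := (trC hmm').left.app_surjective ⊤ (isAffineOpen_top _) r
    have h0 : ψC m r₀ = 0 := by
      refine Eq.trans ?_ hr
      change _ = ((trC hmm').left.appTop ≫ (dC m').left.appTop) r₀
      rw [← Scheme.Hom.comp_appTop, ← Over.comp_left, dC_trC]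
      rfl
    obtain ⟨N, hN⟩ := hz ⟨a, ha⟩ r₀ h0
    refine ⟨N, ?_⟩
    have hq : (trC hmm').left.appTop.hom.comp (qC m) = qC m' := by
      change ((subι (B.T m.1) m.2.1 ≫ B.qT m.1).left.appTop ≫ (trC hmm').left.appTop).hom = _
      rw [← Scheme.Hom.comp_appTop, ← Over.comp_left, reassoc_of% htr]
      rfl
    have hkill : Ideal.span (z ⟨a, ha⟩ : Set Γ((C m).left, ⊤)) ≤ RingHom.ker (trC hmm').left.appTop.hom := by
      refine Ideal.span_le.2 fun y hy => RingHom.mem_ker.2 ?_
      rw [← hlift y]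
      change ((subι (B.T m.1) m.2.1).left.appTop ≫ (trC hmm').left.appTop) (lift y) = 0
      rw [← Scheme.Hom.comp_appTop, ← Over.comp_left, htr]
      exact appTop_eq_zero_of_mem J.1 (hJ _ ((Scheme.IdealSheafData.equivOfIsAffine.apply_symm_apply
        (Ideal.span (((L.attach.biUnion z).image lift : Finset Γ((B.T m.1).left, ⊤)) : Set Γ((B.T m.1).left, ⊤)))).ge
        (Ideal.subset_span (Finset.mem_image_of_mem lift (Finset.mem_biUnion.2 ⟨_, Finset.mem_attach _ _, hy⟩)))))
    have := RingHom.mem_ker.1 (hkill hN)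
    rw [map_mul, map_pow] at this
    rw [← hq]
    exact this

/-- An open of the base chart. -/
structure OpenData {V : Space S} (j : V ⟶ Y) {PV : Sp S} (pv₁ : PV ⟶ X) (pv₂ : PV ⟶ V.obj) (B : Basic Y X f) where
  open_j : RepWith @IsOpenImmersion j.hom
  sq : IsPullback pv₁ pv₂ f j.hom
  finite : IsFiniteMor pv₂
  lfp : LocP @LocallyOfFinitePresentation pv₂
  qc : IsQuasiCompactSp V.obj

variable {V : Space S} {j : V ⟶ Y} {PV : Sp S} {pv₁ : PV ⟶ X} {pv₂ : PV ⟶ V.obj}

theorem exists_cover [QuasiSeparatedSpace ↥S] (H : OpenData j pv₁ pv₂ B) :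
    ∃ (Vo : Over S) (jU : Vo ⟶ B.U) (fV : (yon S).obj Vo ⟶ V.obj) (L : Finset Γ(B.U.left, ⊤)),
      IsPullback fV ((yon S).map jU) j.hom B.p₀ ∧ IsOpenImmersion jU.left ∧
      (∀ a ∈ L, (B.U.left.basicOpen a : Set B.U.left) ⊆ Set.range jU.left ∧
        IsFinite (B.gU.left ∣_ B.U.left.basicOpen a) ∧
        LocallyOfFinitePresentation (B.gU.left ∣_ B.U.left.basicOpen a)) ∧
      ∀ v : Vo.left, ∃ a ∈ L, jU.left v ∈ B.U.left.basicOpen a := by
  classical
  obtain ⟨Vo, jU, fV, sV, hjU⟩ : ∃ (Vo : Over S) (jU : Vo ⟶ B.U) (fV : (yon S).obj Vo ⟶ V.obj),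
      IsPullback fV ((yon S).map jU) j.hom B.p₀ ∧ IsOpenImmersion jU.left :=
    ⟨_, _, _, H.open_j.1.isPullback _, H.open_j.2 _ _ _ (H.open_j.1.isPullback _)⟩
  have : CompactSpace B.U.left := inferInstance
  have : CompactSpace Vo.left := Groth.Agent.AlgSp.LimOpen.compactSpace_of_isQuasiCompactSp
    ((Groth.Agent.AlgSp.isQuasiCompactMor_of_quasiCompactSp V.property Y.property j.hom H.qc B.qs)
      (IsAlgSpace.yon_obj B.U) (Groth.Agent.AlgSp.isQuasiCompactSp_yon B.U) B.p₀ fV _ sV)
  let g := B.gU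
  -- the chart of the base change
  have s1 : IsPullback ((yon S).map (pullback.fst g jU) ≫ B.πX) ((yon S).map (pullback.snd g jU)) f (fV ≫ j.hom) := by
    rw [sV.w]
    exact ((IsPullback.of_hasPullback g jU).map (yon S)).paste_horiz B.isPullback_X
  obtain ⟨w, hw₁, hw₂⟩ : ∃ w : (yon S).obj (pullback g jU) ⟶ PV,
      w ≫ pv₁ = (yon S).map (pullback.fst g jU) ≫ B.πX ∧ w ≫ pv₂ = (yon S).map (pullback.snd g jU) ≫ fV :=
    H.sq.exists_lift _ _ (by rw [s1.w, Category.assoc])
  have sW : IsPullback w ((yon S).map (pullback.snd g jU)) pv₂ fV := by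
    refine IsPullback.of_right ?_ hw₂ H.sq
    rw [hw₁]; exact s1
  have hPV : IsAlgSpace PV := Groth.Agent.AlgSp.isAlgSpace_of_representable pv₂
    ((Groth.Agent.AlgSpCov.isFiniteMor_iff _).1 H.finite).1 V.property
  have hfin : IsFinite (pullback.snd g jU).left := ((Groth.Agent.AlgSpCov.isFiniteMor_iff _).1 H.finite).2 _ _ _ sW
  have hlfp : LocallyOfFinitePresentation (pullback.snd g jU).left :=
    (AlgSpCov.repWith_of_locP AlgSpCov.etaleLocal_locallyOfFinitePresentation hPV V.property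
      ((Groth.Agent.AlgSpCov.isFiniteMor_iff _).1 H.finite).1 H.lfp).2 _ _ _ sW
  have hex : ∀ v : Vo.left, ∃ a : Γ(B.U.left, ⊤), B.U.left.basicOpen a ≤ jU.left.opensRange ∧
      jU.left v ∈ B.U.left.basicOpen a := fun v => by
    obtain ⟨a, ha, hv⟩ := (isAffineOpen_top B.U.left).exists_basicOpen_le (V := jU.left.opensRange)
      ⟨jU.left v, v, rfl⟩ trivial
    exact ⟨a, ha, hv⟩
  choose a ha hva using hex
  obtain ⟨t, ht⟩ := isCompact_univ.elim_finite_subcover (fun v : Vo.left => jU.left ⁻¹' (B.U.left.basicOpen (a v) : Set B.U.left))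
    (fun v => (B.U.left.basicOpen (a v)).2.preimage jU.left.continuous)
    (fun v _ => Set.mem_iUnion.2 ⟨v, hva v⟩)
  refine ⟨Vo, jU, fV, t.image a, sV, hjU, fun b hb => ?_, fun v => ?_⟩
  · obtain ⟨v, -, rfl⟩ := Finset.mem_image.1 hb
    have hsub : (B.U.left.basicOpen (a v) : Set B.U.left) ⊆ Set.range jU.left := ha v
    let l := IsOpenImmersion.lift jU.left (B.U.left.basicOpen (a v)).ι (by rw [Scheme.Opens.range_ι]; exact hsub)
    have hl : l ≫ jU.left = (B.U.left.basicOpen (a v)).ι := IsOpenImmersion.lift_fac _ _ _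
    have sq' : IsPullback (pullback.fst g jU).left (pullback.snd g jU).left g.left jU.left :=
      (IsPullback.of_hasPullback g jU).map (Over.forget S)
    obtain ⟨k, hk₁, hk₂⟩ := sq'.exists_lift (g.left ⁻¹ᵁ B.U.left.basicOpen (a v)).ι
      (g.left ∣_ B.U.left.basicOpen (a v) ≫ l) (by
        rw [Category.assoc, hl]
        exact (isPullback_morphismRestrict g.left _).w.symm)
    have sR : IsPullback k (g.left ∣_ B.U.left.basicOpen (a v)) (pullback.snd g jU).left l := by
      refine IsPullback.of_right ?_ hk₂ sq'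
      rw [hk₁, hl]
      exact (isPullback_morphismRestrict g.left _).flip
    exact ⟨hsub, MorphismProperty.of_isPullback sR hfin, MorphismProperty.of_isPullback sR hlfp⟩
  · obtain ⟨v', hv', h⟩ := Set.mem_iUnion₂.1 (ht (Set.mem_univ v))
    exact ⟨a v', Finset.mem_image_of_mem a hv', h⟩

set_option maxHeartbeats 2000000 in
/-- A stage isomorphic after inverting elements covering the open is isomorphic over the open. -/
theorem isIso_of_isoAt (H : OpenData j pv₁ pv₂ B) {Vo : Over S} {jU : Vo ⟶ B.U} {fV : (yon S).obj Vo ⟶ V.obj}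
    (sV : IsPullback fV ((yon S).map jU) j.hom B.p₀) (hjU : IsOpenImmersion jU.left) {L : Finset Γ(B.U.left, ⊤)}
    (hcov : ∀ v : Vo.left, ∃ a ∈ L, jU.left v ∈ B.U.left.basicOpen a) {n : B.Node} (hn : ∀ a ∈ L, IsoAt n a)
    {P : Sp S} {q₁ : P ⟶ Z n} {q₂ : P ⟶ V.obj} (sP : IsPullback q₁ q₂ (inc n ≫ B.base n.1) j.hom)
    (k : PV ⟶ P) (hk₁ : k ≫ q₁ = pv₁ ≫ toZ n) (hk₂ : k ≫ q₂ = pv₂) : IsIso k := by
  let qn := subι (B.T n.1) n.2.1 ≫ B.qT n.1
  let g := B.gU
  have hdq : dC n ≫ qn = g := by rw [reassoc_of% (dC_ι n), B.d_qT]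
  have sC : IsPullback ((yon S).map (pullback.fst qn jU) ≫ pC n) ((yon S).map (pullback.snd qn jU))
      (inc n ≫ B.base n.1) (fV ≫ j.hom) := by
    rw [sV.w]
    exact ((IsPullback.of_hasPullback qn jU).map (yon S)).paste_horiz (isPullback_str n)
  have sX0 : IsPullback ((yon S).map (pullback.fst g jU) ≫ B.πX) ((yon S).map (pullback.snd g jU)) f (fV ≫ j.hom) := by
    rw [sV.w]
    exact ((IsPullback.of_hasPullback g jU).map (yon S)).paste_horiz B.isPullback_X
  obtain ⟨π, hπ₁, hπ₂⟩ : ∃ π : (yon S).obj (pullback qn jU) ⟶ P,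
      π ≫ q₁ = (yon S).map (pullback.fst qn jU) ≫ pC n ∧ π ≫ q₂ = (yon S).map (pullback.snd qn jU) ≫ fV :=
    sP.exists_lift _ _ (by rw [sC.w, Category.assoc])
  have sπ : IsPullback π ((yon S).map (pullback.snd qn jU)) q₂ fV := by
    refine IsPullback.of_right ?_ hπ₂ sP
    rw [hπ₁]; exact sC
  obtain ⟨w, hw₁, hw₂⟩ : ∃ w : (yon S).obj (pullback g jU) ⟶ PV,
      w ≫ pv₁ = (yon S).map (pullback.fst g jU) ≫ B.πX ∧ w ≫ pv₂ = (yon S).map (pullback.snd g jU) ≫ fV :=
    H.sq.exists_lift _ _ (by rw [sX0.w, Category.assoc])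
  have sW : IsPullback w ((yon S).map (pullback.snd g jU)) pv₂ fV := by
    refine IsPullback.of_right ?_ hw₂ H.sq
    rw [hw₁]; exact sX0
  let u : pullback g jU ⟶ pullback qn jU := pullback.lift (pullback.fst g jU ≫ dC n) (pullback.snd g jU)
    (by rw [Category.assoc, hdq]; exact pullback.condition)
  have hu₁ : u ≫ pullback.fst qn jU = pullback.fst g jU ≫ dC n := pullback.lift_fst _ _ _
  have hu₂ : u ≫ pullback.snd qn jU = pullback.snd g jU := pullback.lift_snd _ _ _
  have sK : IsPullback w ((yon S).map u) k π := by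
    refine IsPullback.of_bot ?_ ?_ sπ
    · rw [← Functor.map_comp, hu₂, hk₂]; exact sW
    · refine sP.hom_ext ?_ ?_
      · rw [Category.assoc, hk₁, ← Category.assoc, hw₁, Category.assoc, Category.assoc, hπ₁, (isPullback_dC n).w,
          ← Functor.map_comp_assoc, ← Functor.map_comp_assoc, hu₁]
      · rw [Category.assoc, hk₂, hw₂, Category.assoc, hπ₂, ← Functor.map_comp_assoc, hu₂]
  -- the map of charts is an isomorphism
  have sF : IsPullback (pullback.fst g jU) u (dC n) (pullback.fst qn jU) := by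
    refine IsPullback.of_bot ?_ hu₁.symm (IsPullback.of_hasPullback qn jU)
    rw [hu₂, hdq]
    exact IsPullback.of_hasPullback g jU
  have sF' : IsPullback (pullback.fst g jU).left u.left (dC n).left (pullback.fst qn jU).left :=
    sF.map (Over.forget S)
  have hloc : ∀ a ∈ L, IsIso ((dC n).left ∣_ (C n).left.basicOpen (qC n a)) := fun a ha => by
    have : IsAffine ((C n).left.basicOpen (qC n a)).toScheme := (isAffineOpen_top _).basicOpen _
    have hpre : IsAffine ((dC n).left ⁻¹ᵁ (C n).left.basicOpen (qC n a)).toScheme := by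
      rw [Scheme.preimage_basicOpen_top]
      exact (isAffineOpen_top _).basicOpen _
    refine (HasAffineProperty.iff_of_isAffine (P := MorphismProperty.isomorphisms Scheme)
      (f := (dC n).left ∣_ (C n).left.basicOpen (qC n a))).2 ⟨hpre, ?_⟩
    refine (ConcreteCategory.isIso_iff_bijective _).2 ?_
    let := (isAffineOpen_top B.XU.left).isLocalization_basicOpen ((dC n).left.appTop (qC n a))
    refine (app_basicOpen_prop (Q := fun {R S} _ _ h => Function.Bijective h) (dC n).left
      ⟨fun f e hf => e.bijective.comp hf, fun f e hf => hf.comp e.bijective⟩ (qC n a)).2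
      (Kill.bijective_map _ _ (fun b => ?_) (hn a ha).2)
    obtain ⟨N, r, hr⟩ := (hn a ha).1 b
    exact ⟨N, r, hr.trans (congrArg (· ^ N * b) (RingHom.congr_fun (ψC_qC n) a).symm)⟩
  have hiu : IsIso u.left := by
    let Ω : {a // a ∈ L} → (pullback qn jU).left.Opens := fun a =>
      (pullback.fst qn jU).left ⁻¹ᵁ (C n).left.basicOpen (qC n a.1)
    refine IsZariskiLocalAtTarget.of_iSup_eq_top (P := MorphismProperty.isomorphisms Scheme) Ω
      (top_le_iff.1 fun x _ => ?_) fun a => ?_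
    · obtain ⟨a, ha, hv⟩ := hcov ((pullback.snd qn jU).left x)
      refine Opens.mem_iSup.2 ⟨⟨a, ha⟩, ?_⟩
      change (pullback.fst qn jU).left x ∈ (C n).left.basicOpen (qn.left.appTop a)
      rw [← Scheme.preimage_basicOpen_top]
      change qn.left ((pullback.fst qn jU).left x) ∈ B.U.left.basicOpen a
      rw [← Scheme.Hom.comp_apply, ← Over.comp_left, pullback.condition]
      exact hv
    · let D := (C n).left.basicOpen (qC n a.1)
      let ρ := (pullback.fst qn jU).left ∣_ D
      have sR := (isPullback_morphismRestrict u.left (Ω a)).flip.paste_horiz sF'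
      rw [← (isPullback_morphismRestrict (pullback.fst qn jU).left D).w] at sR
      have sd := (isPullback_morphismRestrict (dC n).left D).flip
      obtain ⟨m, hm₁, hm₂⟩ := sd.exists_lift _ _ (sR.w.trans (Category.assoc _ _ _).symm)
      have : IsIso ((dC n).left ∣_ D) := hloc a.1 a.2
      exact (IsPullback.of_right (by rw [hm₁]; exact sR) hm₂ sd).isIso_snd_of_isIso
  have : IsIso ((Over.forget S).map u) := hiu
  have : IsIso u := isIso_of_reflects_iso _ (Over.forget S)
  have hfe : RepWith @Etale fV := MorphismProperty.of_isPullback sV.flip B.E₀.E.property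
  have hfs : RepWith @Surjective fV := MorphismProperty.of_isPullback sV.flip B.surj
  have hπe : RepWith @Etale π := MorphismProperty.of_isPullback sπ.flip hfe
  have hπs : RepWith @Surjective π := MorphismProperty.of_isPullback sπ.flip hfs
  have := Groth.Agent.AlgSp.isLocallySurjective_of_etale_surjective π hπe hπs
  have : Mono k := Groth.Agent.AlgSp.mono_of_isLocallySurjective_baseChange k π sK
  have : Epi π := Sheaf.epi_of_isLocallySurjective π
  have : Epi (w ≫ k) := by rw [sK.w]; exact epi_comp _ _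
  have : Epi k := epi_of_epi w k
  exact isIso_of_mono_of_epi k

end Basic

end Groth.Agent.AlgSpSpec
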