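import Groth.Agent.AlgSpSpec.Fam
import Groth.Agent.AlgSpQC.Conv
import Mathlib.LinearAlgebra.SymmetricAlgebra.Basic
import Mathlib.Algebra.Module.Shrink

/-!
# The symmetric algebra of a quasi-coherent module of finite type, as a cartesian family of algebras
-/

universe u v w

open CategoryTheory CategoryTheory.Limits AlgebraicGeometry Opposite TensorProduct

set_option backward.isDefEq.respectTransparency false
set_option backward.isDefEq.respectTransparency.types false
set_option autoImplicit false

namespace Groth.Agent.AlgSpSpec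

open _root_.AlgSp
open Groth.Agent.AlgSpQC

/-- Linear maps out of a base change. -/
theorem exists_linear_of_isBC {A W : Type u} [CommRing A] [CommRing W] {N : Type v} [AddCommGroup N] [Module A N]
    {L : Type v} [AddCommGroup L] [Module W L] {L' : Type w} [AddCommGroup L'] [Module W L'] {p : A →+* W}
    {φ : N →+ L} (hφ : ∀ a n, φ (a • n) = p a • φ n) (h : IsBC p φ) (ψ : N →+ L')
    (hψ : ∀ a n, ψ (a • n) = p a • ψ n) : ∃ f : L →ₗ[W] L', ∀ n, f (φ n) = ψ n := by
  letI := p.toAlgebra
  let e := LinearEquiv.ofBijective _ ((isBC_iff φ hφ).1 h)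
  refine ⟨(bc ψ hψ).comp e.symm.toLinearMap, fun n => ?_⟩
  have : e.symm (φ n) = (1 : W) ⊗ₜ[A] n := by
    rw [LinearEquiv.symm_apply_eq]
    simp [e]
  simp [this]

theorem linear_ext_of_isBC {A W : Type u} [CommRing A] [CommRing W] {N : Type v} [AddCommGroup N] [Module A N]
    {L : Type v} [AddCommGroup L] [Module W L] {L' : Type w} [AddCommGroup L'] [Module W L'] {p : A →+* W}
    {φ : N →+ L} (h : IsBC p φ) {f f' : L →ₗ[W] L'} (e : ∀ n, f (φ n) = f' (φ n)) : f = f' := by
  refine LinearMap.ext fun l => ?_
  obtain ⟨c, rfl⟩ := h.1 l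
  rw [Finsupp.linearCombination_apply, map_finsuppSum, map_finsuppSum]
  exact Finsupp.sum_congr fun n _ => by simp [e]

variable {S : Scheme.{u}} {X : Sp S} (M : ModEt X)

/-- A module whose sections on affine objects are finite. -/
abbrev FiniteOnAff : Prop := ∀ E : Aff X, Module.Finite (gr E.E) (sectModEt M E.E)

variable {M}

theorem small_sect (hM : FiniteOnAff M) (E : Aff X) : Small.{u} (sectModEt M E.E) := by
  have := hM E
  obtain ⟨n, f, hf⟩ := Module.Finite.exists_fin' (gr E.E) (sectModEt M E.E)
  exact small_of_surjective hf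

variable (M) (hM : FiniteOnAff M)

/-- A small model of the sections. -/
noncomputable def Sec (E : Aff X) : Type u := @Shrink.{u} (sectModEt M E.E) (small_sect hM E)

noncomputable instance (E : Aff X) : AddCommGroup (Sec M hM E) :=
  haveI := small_sect hM E
  inferInstanceAs (AddCommGroup (Shrink.{u} (sectModEt M E.E)))

noncomputable instance (E : Aff X) : Module (gr E.E) (Sec M hM E) :=
  haveI := small_sect hM E
  inferInstanceAs (Module (gr E.E) (Shrink.{u} (sectModEt M E.E)))

/-- The small model is equivalent to the sections. -/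
noncomputable def secEquiv (E : Aff X) : sectModEt M E.E ≃ₗ[gr E.E] Sec M hM E :=
  haveI := small_sect hM E
  (Shrink.linearEquiv (gr E.E) (sectModEt M E.E)).symm

/-- The symmetric algebra on an affine object. -/
noncomputable def symA (E : Aff X) : CommRingCat.{u} := CommRingCat.of (SymmetricAlgebra (gr E.E) (Sec M hM E))

/-- The structure map of the symmetric algebra. -/
noncomputable def symStr (E : Aff X) : CommRingCat.of (gr E.E) ⟶ symA M hM E :=
  CommRingCat.ofHom (algebraMap (gr E.E) (SymmetricAlgebra (gr E.E) (Sec M hM E)))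

/-- The generators of the symmetric algebra. -/
noncomputable def symι (E : Aff X) : sectModEt M E.E →+ symA M hM E :=
  ((SymmetricAlgebra.ι (gr E.E) (Sec M hM E)).comp (secEquiv M hM E).toLinearMap).toAddMonoidHom

theorem symι_smul (E : Aff X) (a : gr E.E) (m : sectModEt M E.E) :
    symι M hM E (a • m) = (symStr M hM E).hom a * symι M hM E m := by
  change SymmetricAlgebra.ι _ _ (secEquiv M hM E (a • m)) = _
  rw [map_smul, map_smul, Algebra.smul_def]
  rfl

theorem exists_symHom (E : Aff X) {R : Type u} [CommRing R] (p : gr E.E →+* R) (f : sectModEt M E.E →+ R)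
    (hf : ∀ a m, f (a • m) = p a * f m) :
    ∃ h : symA M hM E →+* R, h.comp (symStr M hM E).hom = p ∧ ∀ m, h (symι M hM E m) = f m := by
  letI := p.toAlgebra
  let g : Sec M hM E →ₗ[gr E.E] R :=
    { toFun := fun x => f ((secEquiv M hM E).symm x)
      map_add' := fun x y => by rw [map_add, map_add]
      map_smul' := fun a x => by rw [map_smul, hf, RingHom.id_apply, Algebra.smul_def]; rfl }
  refine ⟨(SymmetricAlgebra.lift g).toRingHom, RingHom.ext fun a => (SymmetricAlgebra.lift g).commutes a,
    fun m => ?_⟩
  change SymmetricAlgebra.lift g (SymmetricAlgebra.ι _ _ (secEquiv M hM E m)) = f m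
  rw [SymmetricAlgebra.lift_ι_apply]
  exact congrArg f ((secEquiv M hM E).symm_apply_apply m)

theorem symHom_ext (E : Aff X) {R : Type u} [CommRing R] {h h' : symA M hM E →+* R}
    (e₁ : h.comp (symStr M hM E).hom = h'.comp (symStr M hM E).hom)
    (e₂ : ∀ m, h (symι M hM E m) = h' (symι M hM E m)) : h = h' := by
  refine RingHom.ext fun x => ?_
  induction x using SymmetricAlgebra.induction with
  | algebraMap r => exact RingHom.congr_fun e₁ r
  | ι x =>
    obtain ⟨m, rfl⟩ := (secEquiv M hM E).surjective x
    exact e₂ m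
  | mul a b ha hb => rw [map_mul, map_mul, ha, hb]
  | add a b ha hb => rw [map_add, map_add, ha, hb]

theorem exists_symMap {E W : Aff X} (g : W.E ⟶ E.E) :
    ∃ h : symA M hM E →+* symA M hM W, h.comp (symStr M hM E).hom = (symStr M hM W).hom.comp (gm g) ∧
      ∀ m, h (symι M hM E m) = symι M hM W (rs M g m) :=
  exists_symHom M hM E ((symStr M hM W).hom.comp (gm g)) ((symι M hM W).comp (rs M g)) fun a m => by
    change symι M hM W (rs M g (a • m)) = _
    rw [rs_smul, symι_smul]
    rfl

/-- The restriction of symmetric algebras. -/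
noncomputable def symMap {E W : Aff X} (g : W.E ⟶ E.E) : symA M hM E ⟶ symA M hM W :=
  CommRingCat.ofHom (exists_symMap M hM g).choose

theorem symMap_str {E W : Aff X} (g : W.E ⟶ E.E) (a : gr E.E) :
    (symMap M hM g).hom ((symStr M hM E).hom a) = (symStr M hM W).hom (gm g a) :=
  RingHom.congr_fun (exists_symMap M hM g).choose_spec.1 a

theorem symMap_ι {E W : Aff X} (g : W.E ⟶ E.E) (m : sectModEt M E.E) :
    (symMap M hM g).hom (symι M hM E m) = symι M hM W (rs M g m) :=
  (exists_symMap M hM g).choose_spec.2 m

variable [M.IsQuasicoherent]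

theorem isPushout_sym {E W : Aff X} (g : W.E ⟶ E.E) :
    IsPushout (symStr M hM E) (CommRingCat.ofHom (gm g)) (symMap M hM g) (symStr M hM W) := by
  have w : symStr M hM E ≫ symMap M hM g = CommRingCat.ofHom (gm g) ≫ symStr M hM W :=
    CommRingCat.hom_ext (RingHom.ext fun a => symMap_str M hM g a)
  have hbc : IsBC (gm g) (rs M g) := bc_of_isQuasicoherent g
  have key : ∀ s : PushoutCocone (symStr M hM E) (CommRingCat.ofHom (gm g)),
      ∃ f : symA M hM W ⟶ s.pt, symMap M hM g ≫ f = s.inl ∧ symStr M hM W ≫ f = s.inr := fun s => by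
    letI : Module (gr W.E) s.pt := s.inr.hom.toModule
    obtain ⟨f, hf⟩ := exists_linear_of_isBC (rs_smul g) hbc (L' := s.pt)
      (s.inl.hom.toAddMonoidHom.comp (symι M hM E)) fun a n => by
        change s.inl.hom (symι M hM E (a • n)) = s.inr.hom (gm g a) * s.inl.hom (symι M hM E n)
        rw [symι_smul, map_mul]
        exact congrArg (· * _) (RingHom.congr_fun (congrArg CommRingCat.Hom.hom s.condition) a)
    obtain ⟨h, h₁, h₂⟩ := exists_symHom M hM W s.inr.hom f.toAddMonoidHom fun a m => f.map_smul a m
    refine ⟨CommRingCat.ofHom h, CommRingCat.hom_ext (symHom_ext M hM E (RingHom.ext fun a => ?_) fun m => ?_),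
      CommRingCat.hom_ext h₁⟩
    · change h ((symMap M hM g).hom ((symStr M hM E).hom a)) = _
      rw [symMap_str]
      exact (RingHom.congr_fun h₁ _).trans (RingHom.congr_fun (congrArg CommRingCat.Hom.hom s.condition) a).symm
    · change h ((symMap M hM g).hom (symι M hM E m)) = _
      rw [symMap_ι, h₂]
      exact hf m
  choose f hf₁ hf₂ using key
  refine ⟨⟨w⟩, ⟨PushoutCocone.IsColimit.mk _ f hf₁ hf₂ fun s m h₁ h₂ => ?_⟩⟩
  have hr : ∀ a, m.hom ((symStr M hM W).hom a) = (f s).hom ((symStr M hM W).hom a) := fun a =>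
    (RingHom.congr_fun (congrArg CommRingCat.Hom.hom h₂) a).trans
      (RingHom.congr_fun (congrArg CommRingCat.Hom.hom (hf₂ s)) a).symm
  refine CommRingCat.hom_ext (symHom_ext M hM W (RingHom.ext hr) fun x => ?_)
  obtain ⟨c, rfl⟩ := hbc.1 x
  rw [Finsupp.linearCombination_apply]
  simp only [map_finsuppSum, symι_smul, map_mul]
  refine Finsupp.sum_congr fun n _ => ?_
  rw [hr, ← symMap_ι M hM g n]
  exact congrArg (_ * ·) ((RingHom.congr_fun (congrArg CommRingCat.Hom.hom h₁) (symι M hM E n)).trans
      (RingHom.congr_fun (congrArg CommRingCat.Hom.hom (hf₁ s)) (symι M hM E n)).symm)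

/-- The symmetric algebra of a module. -/
noncomputable def symFam : AlgFam X where
  A := symA M hM
  str := symStr M hM
  map g := symMap M hM g
  map_id E := CommRingCat.hom_ext (symHom_ext M hM E (RingHom.ext fun a => by
      exact (symMap_str M hM (𝟙 E.E) a).trans (congrArg (symStr M hM E).hom (gm_id _ a))) fun m => by
      exact (symMap_ι M hM (𝟙 E.E) m).trans (congrArg (symι M hM E) (rs_id _ m)))
  map_comp g h := CommRingCat.hom_ext (symHom_ext M hM _ (RingHom.ext fun a => by
      change (symMap M hM (h ≫ g)).hom ((symStr M hM _).hom a) =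
        (symMap M hM h).hom ((symMap M hM g).hom ((symStr M hM _).hom a))
      rw [symMap_str]
      exact ((congrArg _ (symMap_str M hM g a)).trans ((symMap_str M hM h _).trans
        (congrArg (symStr M hM _).hom (gm_comp g h a).symm))).symm) fun m => by
      change (symMap M hM (h ≫ g)).hom (symι M hM _ m) = (symMap M hM h).hom ((symMap M hM g).hom (symι M hM _ m))
      rw [symMap_ι, symMap_ι, symMap_ι, rs_comp])
  cart g := isPushout_sym M hM g

/-- The symmetric algebra of a finitely presented module is finitely presented. -/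
theorem finitePresentation_symmetricAlgebra (A : Type u) [CommRing A] (N : Type u) [AddCommGroup N] [Module A N]
    [Module.FinitePresentation A N] : Algebra.FinitePresentation A (SymmetricAlgebra A N) := by
  classical
  obtain ⟨n, f, hf⟩ := Module.Finite.exists_fin' A N
  obtain ⟨k, hk⟩ : (LinearMap.ker f).FG := Module.FinitePresentation.fg_ker f hf
  let L : (Fin n → A) →ₗ[A] MvPolynomial (Fin n) A := Fintype.linearCombination A MvPolynomial.X
  let I : Ideal (MvPolynomial (Fin n) A) := Ideal.span (k.image L : Set _)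
  have hkI : ∀ v ∈ LinearMap.ker f, L v ∈ I := fun v hv => by
    rw [← hk] at hv
    induction hv using Submodule.span_induction with
    | mem y hy => exact Ideal.subset_span (Finset.mem_image_of_mem L hy)
    | zero => simp
    | add y z _ _ hy hz => rw [map_add]; exact add_mem hy hz
    | smul a y _ hy => rw [map_smul]; exact I.smul_of_tower_mem a hy
  let q := Ideal.Quotient.mkₐ A I
  let L' : (Fin n → A) →ₗ[A] MvPolynomial (Fin n) A ⧸ I := q.toLinearMap.comp L
  let g : N →ₗ[A] MvPolynomial (Fin n) A ⧸ I :=
    ((LinearMap.ker f).liftQ L' fun v hv => Ideal.Quotient.eq_zero_iff_mem.2 (hkI v hv)).comp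
      (f.quotKerEquivOfSurjective hf).symm.toLinearMap
  have hg : ∀ v, g (f v) = q (L v) := fun v => by
    have : (f.quotKerEquivOfSurjective hf).symm (f v) = Submodule.Quotient.mk v := by
      rw [LinearEquiv.symm_apply_eq]; rfl
    simp [g, this, L']
  let φ : MvPolynomial (Fin n) A →ₐ[A] SymmetricAlgebra A N :=
    MvPolynomial.aeval fun i => SymmetricAlgebra.ι A N (f (Pi.single i 1))
  have hφL : φ.toLinearMap.comp L = (SymmetricAlgebra.ι A N).comp f := LinearMap.pi_ext' fun i => by
    ext
    simp [L, φ, Fintype.linearCombination_apply_single]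
  have hφ : ∀ x ∈ I, φ x = 0 := fun x hx => by
    refine (Ideal.span_le (I := RingHom.ker φ.toRingHom)).2 ?_ hx
    intro y hy
    obtain ⟨v, hv, rfl⟩ := Finset.mem_image.1 hy
    have hv' : f v = 0 := LinearMap.mem_ker.1 (hk ▸ Submodule.subset_span hv)
    exact (LinearMap.congr_fun hφL v).trans (by simp [hv'])
  let φ' := Ideal.Quotient.liftₐ I φ hφ
  let ψ := SymmetricAlgebra.lift g
  have h₁ : φ'.comp ψ = AlgHom.id A _ := SymmetricAlgebra.algHom_ext (LinearMap.ext fun x => by
    obtain ⟨v, rfl⟩ := hf x
    change φ' (ψ (SymmetricAlgebra.ι A N (f v))) = SymmetricAlgebra.ι A N (f v)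
    rw [SymmetricAlgebra.lift_ι_apply, hg]
    exact (Ideal.Quotient.lift_mk I _ _).trans (LinearMap.congr_fun hφL v))
  have h₂ : ψ.comp φ' = AlgHom.id A _ := Ideal.Quotient.algHom_ext _ (MvPolynomial.algHom_ext fun i => by
    change ψ (φ' (q (MvPolynomial.X i))) = q (MvPolynomial.X i)
    have : φ' (q (MvPolynomial.X i)) = φ (MvPolynomial.X i) := Ideal.Quotient.lift_mk I _ _
    rw [this, MvPolynomial.aeval_X, SymmetricAlgebra.lift_ι_apply, hg]
    simp [L, Fintype.linearCombination_apply_single])
  have : Algebra.FinitePresentation A (MvPolynomial (Fin n) A ⧸ I) := Algebra.FinitePresentation.quotient ⟨_, rfl⟩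
  exact Algebra.FinitePresentation.equiv (AlgEquiv.ofAlgHom φ' ψ h₁ h₂)

omit [M.IsQuasicoherent] in
/-- The symmetric algebra of a finitely presented module is finitely presented. -/
theorem symStr_finitePresentation (E : Aff X) (h : Module.FinitePresentation (gr E.E) (sectModEt M E.E)) :
    RingHom.FinitePresentation (symStr M hM E).hom := by
  have : Module.FinitePresentation (gr E.E) (Sec M hM E) := Module.FinitePresentation.of_equiv (secEquiv M hM E)
  exact RingHom.finitePresentation_algebraMap.2 (finitePresentation_symmetricAlgebra _ _)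

end Groth.Agent.AlgSpSpec
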