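import Groth.Agent.AlgSpSpec.Lift
import Groth.Agent.AlgSpSpec.Sym
import Groth.Agent.AlgSpEN.ZMT.UnitQC
import Groth.Agent.AlgSpB.FPCover.Cover
import Mathlib.AlgebraicGeometry.Morphisms.FinitePresentation

/-!
# A finite morphism is a closed immersion into an affine morphism of finite presentation
-/

universe u

open CategoryTheory CategoryTheory.Limits AlgebraicGeometry Opposite

set_option backward.isDefEq.respectTransparency false
set_option backward.isDefEq.respectTransparency.types false
set_option autoImplicit false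

namespace Groth.Agent.AlgSpSpec

open _root_.AlgSp
open Groth.Agent.AlgSpQC
open Groth.Agent.AlgSpEN.ZMT (u1 smul_u1 rs_u1 isQuasicoherent_unit)

variable {S : Scheme.{u}} [QuasiSeparatedSpace ↥S] {Y : Space S} {N : Sp S}

set_option maxHeartbeats 1000000 in
/-- A finite morphism to a quasi-compact quasi-separated space is a closed immersion into an affine morphism of
finite presentation. -/
theorem exists_closed_affine_fp {φ : N ⟶ Y.obj} (hfin : IsFiniteMor φ) (hqc : IsQuasiCompactSp Y.obj)
    (hqs : IsQuasiSeparatedSp Y.obj) :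
    ∃ (P : Sp S) (θ : N ⟶ P) (νP : P ⟶ Y.obj), θ ≫ νP = φ ∧ IsAlgSpace P ∧ RepWith @IsClosedImmersion θ ∧
      RepWith @IsAffineHom νP ∧ RepWith @LocallyOfFinitePresentation νP := by
  classical
  have hν : Representable φ := ((Groth.Agent.AlgSp.isAffineMor_iff φ).1 (isAffineMor_of_isFiniteMor hfin)).1
  have haff : IsAffineMor φ := isAffineMor_of_isFiniteMor hfin
  obtain ⟨U, p, hU, hp, hps⟩ := AlgSpEN.exists_affine_atlas Y hqc
  let E₀ : Aff Y.obj := ⟨EtOver.mk p hp, hU⟩
  have hs₀ : RepWith @Surjective E₀.E.obj.hom := hps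
  have := isQuasicoherent_unit (X := N)
  have : (unitModEt N).IsFiniteType := isFiniteType_of_finite fun E _ => by
    refine ⟨⟨{u1 E 1}, eq_top_iff.2 fun x _ => ?_⟩⟩
    obtain ⟨a, rfl⟩ := (u1 E).surjective x
    rw [show u1 E a = a • u1 E 1 by rw [smul_u1, mul_one]]
    exact Submodule.smul_mem _ a (Submodule.subset_span (by simp))
  have : IsAffine E₀.E.obj.left.left := E₀.isAffine
  let M := (pushModEt hν).obj (unitModEt N)
  have : M.IsQuasicoherent := isQuasicoherent_push_affine haff (unitModEt N)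
  have : M.IsFiniteType := isFiniteType_of_finite fun E hE => finite_push hfin (unitModEt N) E
  obtain ⟨G, π, hG, hπ⟩ := AlgSpB.FPCover.exists_fp_cover hqc hqs M
  have : G.IsQuasicoherent := inferInstance
  have hGfp : ∀ E : Aff Y.obj, Module.FinitePresentation (gr E.E) (sectModEt G E.E) := fun E =>
    finitePresentation_sections E.E
  have hGf : FiniteOnAff G := fun E => have := hGfp E; inferInstance
  let F := symFam G hGf
  let v : ∀ E : EtOver Y.obj, sectModEt M E ≃+ gr (bcO hν E) := fun E =>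
    (pushSect hν (unitModEt N) E).trans (u1 (bcO hν E)).symm
  have hvs : ∀ (E : EtOver Y.obj) (a : gr E) (x : sectModEt M E), v E (a • x) = gπ hν E a * v E x := by
    intro E a x
    obtain ⟨y, rfl⟩ := (v E).symm.surjective x
    apply (u1 (bcO hν E)).injective
    change (u1 (bcO hν E)) ((u1 (bcO hν E)).symm (pushSect hν (unitModEt N) E (a • (v E).symm y))) = _
    rw [AddEquiv.apply_symm_apply, pushSect_smul, AddEquiv.apply_symm_apply, ← smul_u1]
    rfl
  have hvr : ∀ {E W : EtOver Y.obj} (g : W ⟶ E) (x : sectModEt M E),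
      v W (rs M g x) = gm (bcM hν g) (v E x) := by
    intro E W g x
    obtain ⟨y, rfl⟩ := (v E).symm.surjective x
    apply (u1 (bcO hν W)).injective
    change (u1 (bcO hν W)) ((u1 (bcO hν W)).symm (pushSect hν (unitModEt N) W (rs M g ((v E).symm y)))) = _
    rw [AddEquiv.apply_symm_apply, pushSect_rs, AddEquiv.apply_symm_apply, ← rs_u1]
    rfl
  have hψ : ∀ E : Aff Y.obj, ∃ h : F.A E →+* gr (bcO hν E.E), h.comp (F.str E).hom = gπ hν E.E ∧
      ∀ m, h (symι G hGf E m) = v E.E (hs π E.E m) := fun E =>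
    exists_symHom G hGf E (gπ hν E.E) ((v E.E).toAddMonoidHom.comp (hs π E.E).toAddMonoidHom) fun a m =>
      (congrArg (v E.E) ((hs π E.E).map_smul a m)).trans (hvs _ a _)
  choose ψ hψ₁ hψ₂ using hψ
  let d₀ : ∀ E : Aff Y.obj, (bcO hν E.E).obj.left.left ⟶ F.TE E := fun E =>
    (bcO hν E.E).obj.left.left.toSpecΓ ≫ Spec.map (CommRingCat.ofHom (ψ E))
  have hd₀ : ∀ E, d₀ E ≫ F.tY E = (EtOver.bcπ hν E.E).left := fun E => by
    have e : F.str E ≫ CommRingCat.ofHom (ψ E) = (EtOver.bcπ hν E.E).left.appTop :=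
      CommRingCat.hom_ext (hψ₁ E)
    change ((bcO hν E.E).obj.left.left.toSpecΓ ≫ Spec.map _) ≫ Spec.map _ ≫ E.E.obj.left.left.isoSpec.inv = _
    rw [Category.assoc, ← Spec.map_comp_assoc, e, ← Scheme.toSpecΓ_naturality_assoc]
    change _ ≫ E.E.obj.left.left.isoSpec.hom ≫ _ = _
    rw [Iso.hom_inv_id, Category.comp_id]
  let L : LiftData hν F :=
    { d := fun E => Over.homMk (d₀ E) (by
        change d₀ E ≫ F.tY E ≫ E.E.obj.left.hom = _
        rw [reassoc_of% (hd₀ E), Over.w (EtOver.bcπ hν E.E)]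
        rfl)
      d_tYO := fun E => Over.OverMorphism.ext (hd₀ E)
      nat := fun {E W} g => Over.OverMorphism.ext (by
        have e : F.map g ≫ CommRingCat.ofHom (ψ W) = CommRingCat.ofHom (ψ E) ≫ (bcM hν g).hom.left.left.appTop := by
          refine CommRingCat.hom_ext (symHom_ext G hGf E (RingHom.ext fun a => ?_) fun m => ?_)
          · change ψ W ((symMap G hGf g).hom ((symStr G hGf E).hom a)) = gm (bcM hν g) (ψ E ((symStr G hGf E).hom a))
            rw [symMap_str]
            exact (RingHom.congr_fun (hψ₁ W) _).trans ((gπ_gm hν g a).trans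
              (congrArg (gm (bcM hν g)) (RingHom.congr_fun (hψ₁ E) a).symm))
          · change ψ W ((symMap G hGf g).hom (symι G hGf E m)) = gm (bcM hν g) (ψ E (symι G hGf E m))
            rw [symMap_ι, hψ₂, hψ₂, hs_rs, hvr]
        change (bcM hν g).hom.left.left ≫ (bcO hν E.E).obj.left.left.toSpecΓ ≫ Spec.map _ =
          ((bcO hν W.E).obj.left.left.toSpecΓ ≫ Spec.map _) ≫ Spec.map (F.map g)
        rw [Category.assoc, ← Spec.map_comp, e, Spec.map_comp, Scheme.toSpecΓ_naturality_assoc]) }
  obtain ⟨D⟩ := exists_specData F E₀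
  obtain ⟨θ, hθ, sq⟩ := L.exists_lift D hs₀
  have hfpY : LocallyOfFinitePresentation (F.tY E₀) := by
    have : LocallyOfFinitePresentation (Spec.map (F.str E₀)) :=
      (HasRingHomProperty.Spec_iff (P := @LocallyOfFinitePresentation)).2
        (symStr_finitePresentation G hGf E₀ (hGfp E₀))
    change LocallyOfFinitePresentation (Spec.map (F.str E₀) ≫ E₀.E.obj.left.left.isoSpec.inv)
    infer_instance
  have := (isAffine_bcO_and_map (hf := hν) haff E₀.E)
  have hsurj : Function.Surjective (ψ E₀) := fun y => by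
    obtain ⟨m, hm⟩ := hπ E₀.E E₀.isAffine ((v E₀.E).symm y)
    exact ⟨symι G hGf E₀ m, by rw [hψ₂, hm, AddEquiv.apply_symm_apply]⟩
  have hdc : IsClosedImmersion (L.d E₀).left := by
    change IsClosedImmersion ((bcO hν E₀.E).obj.left.left.toSpecΓ ≫ Spec.map (CommRingCat.ofHom (ψ E₀)))
    have : IsClosedImmersion (Spec.map (CommRingCat.ofHom (ψ E₀))) := IsClosedImmersion.spec_of_surjective _ hsurj
    infer_instance
  exact ⟨D.P, θ, D.νP, hθ, D.isAlgSpace, repWith_lift D sq @IsClosedImmersion hdc inferInstance,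
    D.isAffineHom hs₀, D.repWith hs₀ @LocallyOfFinitePresentation hfpY⟩

end Groth.Agent.AlgSpSpec
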