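import Groth.Agent.AlgSp.NormGlue

/-!
# Descent of a scheme with a cocycle over an etale atlas
-/

set_option autoImplicit false
set_option backward.isDefEq.respectTransparency false
set_option backward.isDefEq.respectTransparency.types false

universe u

open CategoryTheory CategoryTheory.Limits AlgebraicGeometry Opposite

namespace Groth.Agent.AlgSpSpec

open _root_.AlgSp
open Groth.Agent.AlgSp.ElemDist

variable {S : Scheme.{u}} {V T R : Over S} {ν : T ⟶ V} {q₁ q₂ : R ⟶ V}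

/-- The action of a point of the relation. -/
noncomputable def act (τ : pullback ν q₁ ⟶ T) {Z : Over S} (a : Z ⟶ T) (r : Z ⟶ R) (h : a ≫ ν = r ≫ q₁) : Z ⟶ T :=
  pullback.lift a r h ≫ τ

theorem comp_act (τ : pullback ν q₁ ⟶ T) {Z Z' : Over S} (w : Z' ⟶ Z) (a : Z ⟶ T) (r : Z ⟶ R)
    (h : a ≫ ν = r ≫ q₁) :
    w ≫ act τ a r h = act τ (w ≫ a) (w ≫ r) (by rw [Category.assoc, h, Category.assoc]) := by
  delta act
  rw [← Category.assoc]
  congr 1
  apply pullback.hom_ext <;> simp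

theorem act_congr (τ : pullback ν q₁ ⟶ T) {Z : Over S} {a a' : Z ⟶ T} {r r' : Z ⟶ R}
    (h : a ≫ ν = r ≫ q₁) (ha : a = a') (hr : r = r') :
    act τ a r h = act τ a' r' (by rw [← ha, ← hr, h]) := by
  subst ha hr; rfl

theorem act_lift (τ : pullback ν q₁ ⟶ T) {Z : Over S} (w : Z ⟶ pullback ν q₁) :
    act τ (w ≫ pullback.fst ν q₁) (w ≫ pullback.snd ν q₁)
      (by rw [Category.assoc, Category.assoc, pullback.condition]) = w ≫ τ := by
  delta act
  congr 1
  apply pullback.hom_ext <;> simp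

theorem act_ν {τ : pullback ν q₁ ⟶ T} (hτν : τ ≫ ν = pullback.snd ν q₁ ≫ q₂) {Z : Over S} (a : Z ⟶ T)
    (r : Z ⟶ R) (h : a ≫ ν = r ≫ q₁) : act τ a r h ≫ ν = r ≫ q₂ := by
  delta act
  rw [Category.assoc, hτν, pullback.lift_snd_assoc]

/-- A cocycle. -/
structure IsCocycle (τ : pullback ν q₁ ⟶ T) : Prop where
  snd : τ ≫ ν = pullback.snd ν q₁ ≫ q₂
  id' : ∀ {Z : Over S} (a : Z ⟶ T) (r : Z ⟶ R) (h : a ≫ ν = r ≫ q₁), r ≫ q₂ = r ≫ q₁ → act τ a r h = a
  comp' : ∀ {Z : Over S} (a : Z ⟶ T) (r r' r'' : Z ⟶ R) (h : a ≫ ν = r ≫ q₁)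
    (h' : act τ a r h ≫ ν = r' ≫ q₁) (h'' : a ≫ ν = r'' ≫ q₁), r'' ≫ q₂ = r' ≫ q₂ →
    act τ (act τ a r h) r' h' = act τ a r'' h''

variable {G : Sp S} (hG : IsAlgSpace G) (b : (yon S).obj V ⟶ G) (hb : RepWith @Etale b)
  (hbs : RepWith @Surjective b) (sR : IsPullback ((yon S).map q₁) ((yon S).map q₂) b b)
  {τ : pullback ν q₁ ⟶ T} (hc : IsCocycle (q₂ := q₂) τ)

include hb sR hc

set_option maxHeartbeats 2000000 in
/-- Effectivity of a cocycle: the quotient is cartesian over the atlas. -/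
theorem exists_descent :
    ∃ (P : Sp S) (νP : P ⟶ G) (π : (yon S).obj T ⟶ P), IsAlgSpace P ∧
      RepWith @Etale π ∧ RepWith @Surjective π ∧ IsPullback π ((yon S).map ν) νP b ∧
      ∀ {Z : Over S} (a : Z ⟶ T) (r : Z ⟶ R) (h : a ≫ ν = r ≫ q₁),
        (yon S).map (act τ a r h) ≫ π = (yon S).map a ≫ π := by
  have hq₁ : Etale q₁.left := hb.2 _ _ _ sR.flip
  have hqb : (yon S).map q₁ ≫ b = (yon S).map q₂ ≫ b := sR.w
  have hτν := hc.snd
  have hext : ∀ {Z : Over S} (r r' : Z ⟶ R), r ≫ q₁ = r' ≫ q₁ → r ≫ q₂ = r' ≫ q₂ → r = r' := fun r r' h1 h2 =>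
    (yon S).map_injective (sR.hom_ext (by rw [← Functor.map_comp, ← Functor.map_comp, h1])
      (by rw [← Functor.map_comp, ← Functor.map_comp, h2]))
  have hpt : ∀ {Z : Over S} (v v' : Z ⟶ V), (yon S).map v ≫ b = (yon S).map v' ≫ b →
      ∃ r : Z ⟶ R, r ≫ q₁ = v ∧ r ≫ q₂ = v' := fun v v' h => by
    obtain ⟨r, hr⟩ := (yon S).map_surjective (sR.lift _ _ h)
    exact ⟨r, (yon S).map_injective (by rw [Functor.map_comp, hr, sR.lift_fst]),
      (yon S).map_injective (by rw [Functor.map_comp, hr, sR.lift_snd])⟩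
  let σ := pullback.fst ν q₁
  obtain ⟨Δ, hΔ₁, hΔ₂⟩ := hpt (𝟙 V) (𝟙 V) rfl
  let δ : T ⟶ pullback ν q₁ := pullback.lift (𝟙 T) (ν ≫ Δ) (by rw [Category.assoc, hΔ₁, Category.comp_id, Category.id_comp])
  have hδ₁ : δ ≫ σ = 𝟙 T := pullback.lift_fst _ _ _
  have hδ₂ : δ ≫ pullback.snd ν q₁ = ν ≫ Δ := pullback.lift_snd _ _ _
  have hδτ : δ ≫ τ = 𝟙 T := hc.id' (𝟙 T) (ν ≫ Δ) _ (by rw [Category.assoc, Category.assoc, hΔ₁, hΔ₂])
  have hinj : ∀ (Z : Over S) (r r' : Z ⟶ pullback ν q₁), r ≫ τ = r' ≫ τ → r ≫ σ = r' ≫ σ → r = r' := by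
    intro Z r r' ht hs
    refine pullback.hom_ext hs (hext _ _ ?_ ?_)
    · rw [Category.assoc, Category.assoc, ← (pullback.condition (f := ν) (g := q₁)), reassoc_of% hs]
    · rw [Category.assoc, Category.assoc, ← hτν, reassoc_of% ht]
  have hrel : IsEqvRel σ τ := by
    refine ⟨hinj, fun Z => ⟨fun a => ⟨a ≫ δ, by rw [Category.assoc, hδτ, Category.comp_id],
      by rw [Category.assoc, hδ₁, Category.comp_id]⟩, ?_, ?_⟩⟩
    · rintro a b' ⟨r, h1, h2⟩
      obtain ⟨r', hr₁, hr₂⟩ := hpt ((r ≫ pullback.snd ν q₁) ≫ q₂) ((r ≫ pullback.snd ν q₁) ≫ q₁) (by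
        simp only [Functor.map_comp, Category.assoc, hqb])
      have hab : b' ≫ ν = (r ≫ pullback.snd ν q₁) ≫ q₁ := by
        rw [← h2, Category.assoc, Category.assoc, pullback.condition]
      have ha : act τ b' (r ≫ pullback.snd ν q₁) hab = a := by
        rw [← h1, ← act_lift τ r]
        exact act_congr τ hab h2.symm rfl
      have hw : a ≫ ν = r' ≫ q₁ := by rw [hr₁, ← ha, act_ν hτν]
      refine ⟨pullback.lift a r' hw, ?_, pullback.lift_fst _ _ _⟩
      have h'' : b' ≫ ν = (b' ≫ ν ≫ Δ) ≫ q₁ := by rw [Category.assoc, Category.assoc, hΔ₁, Category.comp_id]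
      have hidb : act τ b' (b' ≫ ν ≫ Δ) h'' = b' :=
        hc.id' b' _ h'' (by rw [Category.assoc, Category.assoc, Category.assoc, Category.assoc, hΔ₁, hΔ₂])
      have hcomp := hc.comp' b' (r ≫ pullback.snd ν q₁) r' (b' ≫ ν ≫ Δ) hab (by rw [ha]; exact hw) h''
        (by rw [hr₂, Category.assoc, Category.assoc, hΔ₂, Category.comp_id]; exact hab)
      calc act τ a r' hw = act τ (act τ b' (r ≫ pullback.snd ν q₁) hab) r' (by rw [ha]; exact hw) :=
            act_congr τ hw ha.symm rfl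
        _ = act τ b' (b' ≫ ν ≫ Δ) h'' := hcomp
        _ = b' := hidb
    · rintro a b' c' ⟨r, h1, h2⟩ ⟨r', h1', h2'⟩
      have hbν : b' ≫ ν = (r ≫ pullback.snd ν q₁) ≫ q₁ := by
        rw [← h2, Category.assoc, Category.assoc, pullback.condition]
      have hcν : c' ≫ ν = (r' ≫ pullback.snd ν q₁) ≫ q₁ := by
        rw [← h2', Category.assoc, Category.assoc, pullback.condition]
      have ha : act τ b' (r ≫ pullback.snd ν q₁) hbν = a := by
        rw [← h1, ← act_lift τ r]
        exact act_congr τ hbν h2.symm rfl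
      have hb' : act τ c' (r' ≫ pullback.snd ν q₁) hcν = b' := by
        rw [← h1', ← act_lift τ r']
        exact act_congr τ hcν h2'.symm rfl
      have hbb : b' ≫ ν = (r' ≫ pullback.snd ν q₁) ≫ q₂ := by rw [← hb', act_ν hτν]
      obtain ⟨r'', hr₁, hr₂⟩ := hpt ((r' ≫ pullback.snd ν q₁) ≫ q₁) ((r ≫ pullback.snd ν q₁) ≫ q₂) (by
        rw [Functor.map_comp, Category.assoc, hqb, ← Functor.map_comp_assoc, ← hbb, hbν, Functor.map_comp,
          Category.assoc, hqb, ← Functor.map_comp_assoc])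
      have h'' : c' ≫ ν = r'' ≫ q₁ := by rw [hr₁, hcν]
      refine ⟨pullback.lift c' r'' h'', ?_, pullback.lift_fst _ _ _⟩
      have hcomp := hc.comp' c' (r' ≫ pullback.snd ν q₁) (r ≫ pullback.snd ν q₁) r'' hcν (by rw [hb']; exact hbν) h'' hr₂
      calc act τ c' r'' h'' = act τ (act τ c' (r' ≫ pullback.snd ν q₁) hcν) (r ≫ pullback.snd ν q₁)
              (by rw [hb']; exact hbν) := hcomp.symm
        _ = act τ b' (r ≫ pullback.snd ν q₁) hbν := act_congr τ _ hb' rfl
        _ = a := ha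
  have hσe : Etale σ.left :=
    MorphismProperty.of_isPullback ((IsPullback.of_hasPullback ν q₁).map (Over.forget S)).flip hq₁
  obtain ⟨π, hπs₀, sq⟩ : ∃ π : (yon S).obj T ⟶ QuotSh.quot Scheme.fppfPrecoverage σ τ,
      Sheaf.IsLocallySurjective π ∧ IsPullback ((yon S).map τ) ((yon S).map σ) π π :=
    ⟨_, AlgSp.isLocallySurjective_yπ σ τ, AlgSp.isPullback_yπ σ τ hrel⟩
  obtain ⟨hX', hπe, hπs⟩ := AlgSp.isAlgSpace_of_kernelPair π sq hσe
  obtain ⟨colim⟩ := AlgSp.isColimit_of_isPullback π sq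
  obtain ⟨νX, hνX⟩ : ∃ νX, π ≫ νX = (yon S).map ν ≫ b :=
    ⟨_, (Cofork.IsColimit.desc' colim ((yon S).map ν ≫ b) (by
      rw [← Functor.map_comp_assoc, ← Functor.map_comp_assoc, hτν, pullback.condition, Functor.map_comp,
        Functor.map_comp, Category.assoc, Category.assoc, hqb])).2⟩
  have hact : ∀ {Z : Over S} (a : Z ⟶ T) (r : Z ⟶ R) (h : a ≫ ν = r ≫ q₁),
      (yon S).map (act τ a r h) ≫ π = (yon S).map a ≫ π := by
    intro Z a r h
    delta act
    rw [Functor.map_comp, Category.assoc, sq.w, ← Functor.map_comp_assoc, pullback.lift_fst]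
  have hinjπ : ∀ {Z : Over S} (n n' : Z ⟶ T),
      (yon S).map n ≫ π = (yon S).map n' ≫ π → n ≫ ν = n' ≫ ν → n = n' := by
    intro Z n n' e1 e2
    obtain ⟨r, hr'⟩ := (yon S).map_surjective (sq.lift _ _ e1)
    have h1 : r ≫ τ = n := (yon S).map_injective (by rw [Functor.map_comp, hr', sq.lift_fst])
    have h2 : r ≫ σ = n' := (yon S).map_injective (by rw [Functor.map_comp, hr', sq.lift_snd])
    rw [← h1, ← act_lift τ r, act_congr τ _ h2 rfl]
    refine hc.id' _ _ _ ?_
    rw [Category.assoc, ← hτν, ← Category.assoc, h1, e2, ← h2, Category.assoc, Category.assoc, pullback.condition]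
  have sX : IsPullback π ((yon S).map ν) νX b := by
    let θ := pullback.lift (f := νX) (g := b) π ((yon S).map ν) hνX
    have : IsIso θ := by
      refine AlgSp.isIso_of_yon θ fun Z x => ?_
      obtain ⟨v, hv⟩ := (yon S).map_surjective (x ≫ pullback.snd νX b)
      obtain ⟨T', n, k, sT⟩ := AlgSpB.exists_pullback_yon hπe.1 (x ≫ pullback.fst νX b)
      have hke : Etale k.left := hπe.2 _ _ _ sT
      have hks : Surjective k.left := hπs.2 _ _ _ sT
      have hb' : (yon S).map (n ≫ ν) ≫ b = (yon S).map (k ≫ v) ≫ b := by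
        rw [Functor.map_comp, Functor.map_comp, Category.assoc, Category.assoc, ← hνX, hv, Category.assoc,
          ← pullback.condition, ← Category.assoc, sT.w, Category.assoc, Category.assoc]
      obtain ⟨ρ, hρ₁, hρ₂⟩ := hpt _ _ hb'
      obtain ⟨y', hy'ν, hy'π⟩ : ∃ y' : T' ⟶ T, y' ≫ ν = k ≫ v ∧
          (yon S).map y' ≫ π = (yon S).map k ≫ x ≫ pullback.fst νX b :=
        ⟨act τ n ρ hρ₁.symm, by rw [act_ν hτν, hρ₂], by rw [hact, sT.w]⟩
      have hkfam : ∀ z, ∃ (_ : PUnit.{1}) (t : T'.left), Points.ofPt ((yon S).map k) t = z := fun z => by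
        obtain ⟨z, rfl⟩ := (Points.schemeHomeo Z).surjective z
        obtain ⟨t, ht⟩ := hks.surj z
        exact ⟨⟨⟩, t, (Points.ofPt_eq_map_ofScheme _ _).trans
          ((Points.map_yon_map_apply k t).trans (congrArg (Points.ofScheme Z) ht))⟩
      have hkE : RepWith @Etale ((yon S).map k) := (repWith_yon_map_iff _ _).2 hke
      obtain ⟨l, hl⟩ := exists_desc_fam (p := fun _ : PUnit.{1} => (yon S).map k) (fun _ => hkE) hkfam
        (fun _ => (yon S).map y') fun _ _ W α β' hαβ => by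
          obtain ⟨α, rfl⟩ := (yon S).map_surjective α
          obtain ⟨β', rfl⟩ := (yon S).map_surjective β'
          rw [← Functor.map_comp, ← Functor.map_comp]
          congr 1
          refine hinjπ _ _ ?_ ?_
          · rw [Functor.map_comp, Functor.map_comp, Category.assoc, Category.assoc, hy'π, reassoc_of% hαβ]
          · rw [Category.assoc, Category.assoc, hy'ν, ← Category.assoc, ← Category.assoc,
              (yon S).map_injective (show (yon S).map (α ≫ k) = (yon S).map (β' ≫ k) by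
                rw [Functor.map_comp, Functor.map_comp, hαβ])]
      obtain ⟨y, rfl⟩ := (yon S).map_surjective l
      refine ⟨y, hom_ext_fam (p := fun _ : PUnit.{1} => (yon S).map k) (fun _ => hkE) hkfam fun i => ?_,
        fun y₁ hy₁ => ?_⟩
      · rw [← Category.assoc, hl i]
        apply pullback.hom_ext
        · rw [Category.assoc, pullback.lift_fst, hy'π, Category.assoc]
        · rw [Category.assoc, pullback.lift_snd, ← Functor.map_comp, hy'ν, Functor.map_comp, hv, Category.assoc]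
      · apply (yon S).map_injective
        refine hom_ext_fam (p := fun _ : PUnit.{1} => (yon S).map k) (fun _ => hkE) hkfam fun i => ?_
        rw [hl i, ← Functor.map_comp]
        congr 1
        refine hinjπ _ _ ?_ ?_
        · rw [hy'π, Functor.map_comp, Category.assoc, ← hy₁, Category.assoc, pullback.lift_fst]
        · rw [hy'ν, Category.assoc]
          congr 1
          apply (yon S).map_injective
          rw [Functor.map_comp, hv, ← hy₁, Category.assoc, pullback.lift_snd]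
    exact IsPullback.of_iso_pullback ⟨hνX⟩ (asIso θ) (pullback.lift_fst _ _ _) (pullback.lift_snd _ _ _)
  exact ⟨_, νX, π, hX', hπe, hπs, sX, hact⟩

end Groth.Agent.AlgSpSpec
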