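import Groth.Agent.AlgSpSpec.Glue
import Groth.Agent.AlgSpSpec.Cocycle
import Groth.Agent.AlgSp.DescentRep

/-!
# The relative spectrum of a cartesian family of algebras
-/

universe u

open CategoryTheory CategoryTheory.Limits AlgebraicGeometry Opposite

set_option backward.isDefEq.respectTransparency false
set_option backward.isDefEq.respectTransparency.types false
set_option autoImplicit false

namespace Groth.Agent.AlgSpSpec

open _root_.AlgSp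
open Groth.Agent.AlgSpQC

variable {S : Scheme.{u}} {X : Sp S} {F : AlgFam X}

namespace Rel

variable {E₀ : Aff X} {ρ : Rel E₀}

/-- The action on points lying on a piece. -/
theorem act_eval {τ : ρ.P₁ F ⟶ F.TO E₀}
    (hτ : ∀ (W : Aff X) (k : W.E.obj.left ⟶ ρ.R) (hk : ρ.Over' W k), c F hk ≫ τ = F.tMO (g₂ hk))
    {W : Aff X} {k : W.E.obj.left ⟶ ρ.R} (hk : ρ.Over' W k) {Z : Over S} (l : Z ⟶ F.TO W) {a : Z ⟶ F.TO E₀}
    {r : Z ⟶ ρ.R} (ha : l ≫ F.tMO (g₁ hk) = a) (hr : l ≫ F.tYO W ≫ k = r) (h : a ≫ F.tYO E₀ = r ≫ ρ.q₁) :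
    act τ a r h = l ≫ F.tMO (g₂ hk) := by
  delta act
  rw [← hτ W k hk, ← Category.assoc]
  congr 1
  apply pullback.hom_ext
  · rw [pullback.lift_fst, Category.assoc, c_fst, ha]
  · rw [pullback.lift_snd, Category.assoc, c_snd, hr]

theorem ext (ρ : Rel E₀) {Z : Over S} (r r' : Z ⟶ ρ.R) (h1 : r ≫ ρ.q₁ = r' ≫ ρ.q₁) (h2 : r ≫ ρ.q₂ = r' ≫ ρ.q₂) :
    r = r' :=
  (yon S).map_injective (ρ.sR.hom_ext (by rw [← Functor.map_comp, ← Functor.map_comp, h1])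
    (by rw [← Functor.map_comp, ← Functor.map_comp, h2]))

set_option maxHeartbeats 1000000 in
/-- The transition map satisfies the cocycle condition. -/
theorem isCocycle {τ : ρ.P₁ F ⟶ F.TO E₀}
    (hτ : ∀ (W : Aff X) (k : W.E.obj.left ⟶ ρ.R) (hk : ρ.Over' W k), c F hk ≫ τ = F.tMO (g₂ hk))
    (hsnd : τ ≫ F.tYO E₀ = pullback.snd (F.tYO E₀) ρ.q₁ ≫ ρ.q₂) : IsCocycle (q₂ := ρ.q₂) τ where
  snd := hsnd
  id' {Z} a r h hrr := by
    obtain ⟨Δ, hΔ⟩ := (yon S).map_surjective (ρ.sR.lift (𝟙 _) (𝟙 _) rfl)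
    have hΔ₁ : Δ ≫ ρ.q₁ = 𝟙 _ := (yon S).map_injective (by
      rw [Functor.map_comp, hΔ, ρ.sR.lift_fst, CategoryTheory.Functor.map_id])
    have hΔ₂ : Δ ≫ ρ.q₂ = 𝟙 _ := (yon S).map_injective (by
      rw [Functor.map_comp, hΔ, ρ.sR.lift_snd, CategoryTheory.Functor.map_id])
    have hk : ρ.Over' E₀ Δ := by
      change (yon S).map (Δ ≫ ρ.q₁) ≫ _ = _
      rw [hΔ₁, CategoryTheory.Functor.map_id]
      exact Category.id_comp _
    have e₁ : g₁ hk = 𝟙 E₀.E := EtOver.hom_ext _ _ hΔ₁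
    have e₂ : g₂ hk = 𝟙 E₀.E := EtOver.hom_ext _ _ hΔ₂
    have hr : a ≫ F.tYO E₀ ≫ Δ = r := by
      refine ρ.ext _ _ ?_ ?_
      · rw [Category.assoc, Category.assoc, hΔ₁, Category.comp_id, h]
      · rw [Category.assoc, Category.assoc, hΔ₂, Category.comp_id, h, hrr]
    rw [act_eval hτ hk a (by rw [e₁, F.tMO_id, Category.comp_id]) hr h, e₂, F.tMO_id, Category.comp_id]
  comp' {Z} a r r' r'' h h' h'' hrr := by
    obtain ⟨cm, hcm⟩ := (yon S).map_surjective (ρ.sR.lift ((yon S).map (pullback.fst ρ.q₂ ρ.q₁ ≫ ρ.q₁))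
      ((yon S).map (pullback.snd ρ.q₂ ρ.q₁ ≫ ρ.q₂)) (by
        conv_rhs => rw [Functor.map_comp, Category.assoc, ← ρ.sR.w, ← Functor.map_comp_assoc, ← pullback.condition,
          Functor.map_comp, Category.assoc, ← ρ.sR.w, ← Functor.map_comp_assoc]))
    have hcm₁ : cm ≫ ρ.q₁ = pullback.fst ρ.q₂ ρ.q₁ ≫ ρ.q₁ := (yon S).map_injective (by
      rw [Functor.map_comp, hcm, ρ.sR.lift_fst])
    have hcm₂ : cm ≫ ρ.q₂ = pullback.snd ρ.q₂ ρ.q₁ ≫ ρ.q₂ := (yon S).map_injective (by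
      rw [Functor.map_comp, hcm, ρ.sR.lift_snd])
    have haν : act τ a r h ≫ F.tYO E₀ = r ≫ ρ.q₂ := act_ν hsnd a r h
    let m : Z ⟶ pullback ρ.q₂ ρ.q₁ := pullback.lift r r' (by rw [← haν, h'])
    have hm'' : m ≫ cm = r'' := by
      refine ρ.ext _ _ ?_ ?_
      · rw [Category.assoc, hcm₁, pullback.lift_fst_assoc, ← h, h'']
      · rw [Category.assoc, hcm₂, pullback.lift_snd_assoc, hrr]
    apply Over.OverMorphism.ext
    let R₂ : Over S := pullback ρ.q₂ ρ.q₁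
    let 𝒰 : Z.left.OpenCover := (R₂.left.openCoverOfIsOpenCover
      (fun V : R₂.left.affineOpens => V.1) (iSup_affineOpens_eq_top _)).pullback₁ m.left
    refine 𝒰.hom_ext _ _ fun U => ?_
    let Uo : Over S := Over.mk (U.1.ι ≫ R₂.hom)
    let ιU : Uo ⟶ R₂ := Over.homMk U.1.ι rfl
    let k₁ : Uo ⟶ ρ.R := ιU ≫ pullback.fst ρ.q₂ ρ.q₁
    let k₂ : Uo ⟶ ρ.R := ιU ≫ pullback.snd ρ.q₂ ρ.q₁
    let k₃ : Uo ⟶ ρ.R := ιU ≫ cm
    have hr₁e : Etale (pullback.fst ρ.q₂ ρ.q₁).left :=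
      MorphismProperty.of_isPullback ((IsPullback.of_hasPullback ρ.q₂ ρ.q₁).map (Over.forget S)).flip ρ.etale_q₁
    have hUe : Etale (k₁ ≫ ρ.q₁).left := by
      have := ρ.etale_q₁
      exact inferInstanceAs (Etale ((U.1.ι ≫ (pullback.fst ρ.q₂ ρ.q₁).left) ≫ ρ.q₁.left))
    let W : Aff X := ⟨EtOver.mk ((yon S).map (k₁ ≫ ρ.q₁) ≫ E₀.E.obj.hom)
      ((RepWith _).comp_mem _ _ ((repWith_yon_map_iff _ _).2 hUe) E₀.E.property), U.2⟩
    have hk₁ : ρ.Over' W k₁ := rfl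
    have hk₂ : ρ.Over' W k₂ := by
      change (yon S).map ((ιU ≫ pullback.snd ρ.q₂ ρ.q₁) ≫ ρ.q₁) ≫ _ =
        (yon S).map ((ιU ≫ pullback.fst ρ.q₂ ρ.q₁) ≫ ρ.q₁) ≫ _
      rw [Category.assoc ιU, ← pullback.condition, ← Category.assoc ιU, Functor.map_comp, Category.assoc, ← ρ.sR.w,
        ← Functor.map_comp_assoc]
    have hk₃ : ρ.Over' W k₃ := by
      change (yon S).map ((ιU ≫ cm) ≫ ρ.q₁) ≫ _ = (yon S).map ((ιU ≫ pullback.fst ρ.q₂ ρ.q₁) ≫ ρ.q₁) ≫ _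
      rw [Category.assoc ιU, hcm₁, ← Category.assoc ιU]
    have e21 : g₁ hk₂ = g₂ hk₁ := EtOver.hom_ext _ _ (by
      change k₂ ≫ ρ.q₁ = k₁ ≫ ρ.q₂
      simp only [k₁, k₂, Category.assoc, pullback.condition])
    have e31 : g₁ hk₃ = g₁ hk₁ := EtOver.hom_ext _ _ (by
      change k₃ ≫ ρ.q₁ = k₁ ≫ ρ.q₁
      simp only [k₁, k₃, Category.assoc, hcm₁])
    have e32 : g₂ hk₃ = g₂ hk₂ := EtOver.hom_ext _ _ (by
      change k₃ ≫ ρ.q₂ = k₂ ≫ ρ.q₂
      simp only [k₂, k₃, Category.assoc, hcm₂])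
    let ZU : Over S := Over.mk (pullback.fst m.left U.1.ι ≫ Z.hom)
    let i : ZU ⟶ Z := Over.homMk (pullback.fst m.left U.1.ι) rfl
    let n : ZU ⟶ W.E.obj.left := Over.homMk (pullback.snd m.left U.1.ι) (by
      change pullback.snd m.left U.1.ι ≫ U.1.ι ≫ R₂.hom = pullback.fst m.left U.1.ι ≫ Z.hom
      rw [← pullback.condition_assoc]
      exact congrArg (pullback.fst m.left U.1.ι ≫ ·) (Over.w m))
    have hn : i ≫ m = n ≫ ιU := Over.OverMorphism.ext pullback.condition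
    obtain ⟨l, hl₁, hl₂⟩ := (F.isPullback_tMO (g₁ hk₁)).exists_lift (i ≫ a) n (by
      rw [g₁_left, Category.assoc, h]
      change i ≫ r ≫ ρ.q₁ = n ≫ (ιU ≫ pullback.fst ρ.q₂ ρ.q₁) ≫ ρ.q₁
      rw [Category.assoc ιU, ← reassoc_of% hn, pullback.lift_fst_assoc])
    have hlr : l ≫ F.tYO W ≫ k₁ = i ≫ r := by
      rw [reassoc_of% hl₂]
      change n ≫ ιU ≫ pullback.fst ρ.q₂ ρ.q₁ = i ≫ r
      rw [← reassoc_of% hn, pullback.lift_fst]
    have hlr' : l ≫ F.tYO W ≫ k₂ = i ≫ r' := by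
      rw [reassoc_of% hl₂]
      change n ≫ ιU ≫ pullback.snd ρ.q₂ ρ.q₁ = i ≫ r'
      rw [← reassoc_of% hn, pullback.lift_snd]
    have hlr'' : l ≫ F.tYO W ≫ k₃ = i ≫ r'' := by
      rw [reassoc_of% hl₂]
      change n ≫ ιU ≫ cm = i ≫ r''
      rw [← reassoc_of% hn, hm'']
    have hb : i ≫ act τ a r h = l ≫ F.tMO (g₂ hk₁) := by
      rw [comp_act, act_eval hτ hk₁ l hl₁ hlr]
    suffices e : i ≫ act τ (act τ a r h) r' h' = i ≫ act τ a r'' h'' from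
      congrArg (fun x : _ ⟶ _ => Over.Hom.left x) e
    rw [comp_act τ i (act τ a r h) r' h', comp_act τ i a r'' h'', act_eval hτ hk₂ l (by rw [e21, hb]) hlr',
      act_eval hτ hk₃ l (by rw [e31, hl₁]) hlr'', e32]

end Rel

/-- A relative spectrum of a family over a chart. -/
structure SpecData (F : AlgFam X) (E₀ : Aff X) where
  /-- the space -/
  P : Sp S
  /-- the structure map -/
  νP : P ⟶ X
  /-- the chart -/
  π : (yon S).obj (F.TO E₀) ⟶ P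
  isAlgSpace : IsAlgSpace P
  etale : RepWith @Etale π
  surjective : RepWith @Surjective π
  sq : IsPullback π ((yon S).map (F.tYO E₀)) νP E₀.E.obj.hom
  map_eq : ∀ (W : Aff X) (g g' : W.E ⟶ E₀.E), (yon S).map (F.tMO g) ≫ π = (yon S).map (F.tMO g') ≫ π

/-- The relation on a chart. -/
theorem exists_rel (E₀ : Aff X) : Nonempty (Rel E₀) := by
  obtain ⟨R, q₁, q₂, sR⟩ := AlgSpB.exists_pullback_yon E₀.E.property.1 E₀.E.obj.hom
  exact ⟨⟨R, q₁, q₂, sR⟩⟩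

/-- Relative spectra exist. -/
theorem exists_specData (F : AlgFam X) (E₀ : Aff X) :
    Nonempty (SpecData F E₀) := by
  obtain ⟨ρ⟩ := exists_rel E₀
  obtain ⟨τ, hsnd, hτ⟩ := Rel.exists_tau F ρ
  obtain ⟨P, νP, π, hP, hπe, hπs, sq, hact⟩ :=
    exists_descent (ν := F.tYO E₀) E₀.E.obj.hom E₀.E.property ρ.sR (Rel.isCocycle hτ hsnd)
  refine ⟨⟨P, νP, π, hP, hπe, hπs, sq, fun W g g' => ?_⟩⟩
  obtain ⟨r, hr⟩ := (yon S).map_surjective (ρ.sR.lift ((yon S).map g.hom.left) ((yon S).map g'.hom.left)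
    ((EtOver.w g).trans (EtOver.w g').symm))
  have h₁ : r ≫ ρ.q₁ = g.hom.left := (yon S).map_injective (by rw [Functor.map_comp, hr, ρ.sR.lift_fst])
  have h₂ : r ≫ ρ.q₂ = g'.hom.left := (yon S).map_injective (by rw [Functor.map_comp, hr, ρ.sR.lift_snd])
  have hk : ρ.Over' W r := by
    change (yon S).map (r ≫ ρ.q₁) ≫ _ = _
    rw [h₁]; exact EtOver.w g
  have e₁ : Rel.g₁ hk = g := EtOver.hom_ext _ _ h₁
  have e₂ : Rel.g₂ hk = g' := EtOver.hom_ext _ _ h₂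
  have hw : F.tMO g ≫ F.tYO E₀ = (F.tYO W ≫ r) ≫ ρ.q₁ := by
    rw [(F.isPullback_tMO g).w, Category.assoc, h₁]
  have he : act τ (F.tMO g) (F.tYO W ≫ r) hw = F.tMO g' := by
    rw [Rel.act_eval hτ hk (𝟙 _) (by rw [e₁, Category.id_comp]) (Category.id_comp _), e₂, Category.id_comp]
  rw [← he, hact]

namespace SpecData

variable {E₀ : Aff X} (D : SpecData F E₀)

/-- The relative spectrum is affine over the space. -/
theorem isAffineHom (hs : RepWith @Surjective E₀.E.obj.hom) : RepWith @IsAffineHom D.νP := by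
  have := AlgSp.isLocallySurjective_of_etale_surjective E₀.E.obj.hom E₀.E.property hs
  refine AlgSp.repWith_isAffineHom_of_baseChange D.νP E₀.E.obj.hom D.sq ((repWith_yon_map_iff _ _).2 ?_)
  have : IsAffine (F.TO E₀).left := inferInstanceAs (IsAffine (F.TE E₀))
  exact isAffineHom_of_isAffine (F.tYO E₀).left

/-- A property of the chart descends to the relative spectrum. -/
theorem repWith (hs : RepWith @Surjective E₀.E.obj.hom) (P : MorphismProperty Scheme.{u})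
    [P.IsStableUnderBaseChange] [P.IsLocalAtTarget Scheme.fppfPrecoverage] (h : P (F.tY E₀)) :
    RepWith P D.νP := by
  have := AlgSp.isLocallySurjective_of_etale_surjective E₀.E.obj.hom E₀.E.property hs
  exact AlgSp.repWith_of_isPullback_of_isLocallySurjective D.νP (D.isAffineHom hs).1 _ _ _ D.sq P
    ((repWith_yon_map_iff P (F.tYO E₀)).2 h)

end SpecData

end Groth.Agent.AlgSpSpec
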