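import Groth.Agent.AlgSpQC.Push

/-!
# Cartesian families of algebras on the affine objects of the small etale site, and their spectra
-/

universe u

open CategoryTheory CategoryTheory.Limits AlgebraicGeometry Opposite

set_option backward.isDefEq.respectTransparency false
set_option backward.isDefEq.respectTransparency.types false
set_option autoImplicit false

namespace Groth.Agent.AlgSpSpec

open _root_.AlgSp
open Groth.Agent.AlgSpQC

variable {S : Scheme.{u}}

/-- Affine objects of the small etale site. -/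
structure Aff (X : Sp S) where
  /-- the object -/
  E : EtOver X
  isAffine : IsAffine E.obj.left.left

instance {X : Sp S} (E : Aff X) : IsAffine E.E.obj.left.left := E.isAffine

/-- A family of algebras on the affine objects, compatible with base change. -/
structure AlgFam (X : Sp S) where
  /-- the algebra -/
  A : Aff X → CommRingCat.{u}
  /-- the structure map -/
  str : ∀ E : Aff X, CommRingCat.of (gr E.E) ⟶ A E
  /-- restriction -/
  map : ∀ {E W : Aff X} (_ : W.E ⟶ E.E), A E ⟶ A W
  map_id : ∀ E : Aff X, map (𝟙 E.E) = 𝟙 (A E)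
  map_comp : ∀ {E W V : Aff X} (g : W.E ⟶ E.E) (h : V.E ⟶ W.E), map (h ≫ g) = map g ≫ map h
  cart : ∀ {E W : Aff X} (g : W.E ⟶ E.E), IsPushout (str E) (CommRingCat.ofHom (gm g)) (map g) (str W)

namespace AlgFam

variable {X : Sp S} (F : AlgFam X)

/-- The spectrum of the algebra on an affine object. -/
noncomputable def TE (E : Aff X) : Scheme.{u} := Spec (F.A E)

instance (E : Aff X) : IsAffine (F.TE E) := inferInstanceAs (IsAffine (Spec _))

/-- The structure map of a piece. -/
noncomputable def tY (E : Aff X) : F.TE E ⟶ E.E.obj.left.left :=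
  Spec.map (F.str E) ≫ E.E.obj.left.left.isoSpec.inv

/-- The map of pieces along a map of objects. -/
noncomputable def tM {E W : Aff X} (g : W.E ⟶ E.E) : F.TE W ⟶ F.TE E := Spec.map (F.map g)

theorem tM_id (E : Aff X) : F.tM (𝟙 E.E) = 𝟙 _ := by
  delta tM
  rw [F.map_id, Spec.map_id]
  rfl

theorem tM_comp {E W V : Aff X} (g : W.E ⟶ E.E) (h : V.E ⟶ W.E) : F.tM (h ≫ g) = F.tM h ≫ F.tM g := by
  delta tM
  rw [F.map_comp, Spec.map_comp]

/-- The pieces are cartesian. -/
theorem isPullback_tM {E W : Aff X} (g : W.E ⟶ E.E) :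
    IsPullback (F.tM g) (F.tY W) (F.tY E) g.hom.left.left := by
  have h1 := isPullback_SpecMap_of_isPushout _ _ _ _ (F.cart g)
  have h2 : IsPullback (Spec.map (CommRingCat.ofHom (gm g))) W.E.obj.left.left.isoSpec.inv
      E.E.obj.left.left.isoSpec.inv g.hom.left.left := by
    refine IsPullback.of_vert_isIso ⟨?_⟩
    exact Scheme.isoSpec_inv_naturality g.hom.left.left
  exact h1.paste_vert h2

theorem tM_tY {E W : Aff X} (g : W.E ⟶ E.E) : F.tM g ≫ F.tY E = F.tY W ≫ g.hom.left.left :=
  (F.isPullback_tM g).w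

/-- A piece as a scheme over the base. -/
noncomputable def TO (E : Aff X) : Over S := Over.mk (F.tY E ≫ E.E.obj.left.hom)

/-- The structure map of a piece over the base. -/
noncomputable def tYO (E : Aff X) : F.TO E ⟶ E.E.obj.left := Over.homMk (F.tY E) rfl

/-- The map of pieces over the base. -/
noncomputable def tMO {E W : Aff X} (g : W.E ⟶ E.E) : F.TO W ⟶ F.TO E :=
  Over.homMk (F.tM g) (by
    change F.tM g ≫ F.tY E ≫ E.E.obj.left.hom = F.tY W ≫ W.E.obj.left.hom
    rw [← Category.assoc, F.tM_tY g, Category.assoc, Over.w g.hom.left])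

theorem tMO_id (E : Aff X) : F.tMO (𝟙 E.E) = 𝟙 _ := Over.OverMorphism.ext (F.tM_id E)

theorem tMO_comp {E W V : Aff X} (g : W.E ⟶ E.E) (h : V.E ⟶ W.E) :
    F.tMO (h ≫ g) = F.tMO h ≫ F.tMO g := Over.OverMorphism.ext (F.tM_comp g h)

theorem isPullback_tMO {E W : Aff X} (g : W.E ⟶ E.E) :
    IsPullback (F.tMO g) (F.tYO W) (F.tYO E) g.hom.left :=
  IsPullback.of_map (Over.forget S) (Over.OverMorphism.ext (F.tM_tY g)) (F.isPullback_tM g)

end AlgFam

end Groth.Agent.AlgSpSpec
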