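import Groth.Agent.AlgSpSpec.Fam
import Groth.Agent.AlgSpB.Points

/-!
# The transition map of the spectra of a cartesian family of algebras
-/

universe u

open CategoryTheory CategoryTheory.Limits AlgebraicGeometry Opposite

set_option backward.isDefEq.respectTransparency false
set_option backward.isDefEq.respectTransparency.types false
set_option autoImplicit false

namespace Groth.Agent.AlgSpSpec

open _root_.AlgSp
open Groth.Agent.AlgSpQC

variable {S : Scheme.{u}} {X : Sp S} {F : AlgFam X}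

/-- A relation on an affine chart. -/
structure Rel (E₀ : Aff X) where
  /-- the relation -/
  R : Over S
  /-- first projection -/
  q₁ : R ⟶ E₀.E.obj.left
  /-- second projection -/
  q₂ : R ⟶ E₀.E.obj.left
  sR : IsPullback ((yon S).map q₁) ((yon S).map q₂) E₀.E.obj.hom E₀.E.obj.hom

namespace Rel

variable {E₀ : Aff X} (ρ : Rel E₀)

/-- An affine object mapping to the relation. -/
def Over' (W : Aff X) (r : W.E.obj.left ⟶ ρ.R) : Prop :=
  (yon S).map (r ≫ ρ.q₁) ≫ E₀.E.obj.hom = W.E.obj.hom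

variable {ρ} {W : Aff X} {r : W.E.obj.left ⟶ ρ.R}

/-- The first map to the chart. -/
noncomputable def g₁ (h : ρ.Over' W r) : W.E ⟶ E₀.E := EtOver.homMk (r ≫ ρ.q₁) h

/-- The second map to the chart. -/
noncomputable def g₂ (h : ρ.Over' W r) : W.E ⟶ E₀.E := EtOver.homMk (r ≫ ρ.q₂) (by
  rw [Functor.map_comp, Category.assoc, ← ρ.sR.w, ← Functor.map_comp_assoc]
  exact h)

theorem g₁_left (h : ρ.Over' W r) : (g₁ h).hom.left = r ≫ ρ.q₁ := rfl

theorem g₂_left (h : ρ.Over' W r) : (g₂ h).hom.left = r ≫ ρ.q₂ := rfl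

/-- The first projection of the pulled back piece. -/
noncomputable abbrev P₁ (F : AlgFam X) (ρ : Rel E₀) : Over S := pullback (F.tYO E₀) ρ.q₁

/-- The piece mapping to the pulled back piece. -/
noncomputable def c (F : AlgFam X) (h : ρ.Over' W r) : F.TO W ⟶ ρ.P₁ F :=
  pullback.lift (F.tMO (g₁ h)) (F.tYO W ≫ r) (by
    rw [(F.isPullback_tMO (g₁ h)).w, g₁_left, Category.assoc])

theorem c_fst (h : ρ.Over' W r) : c F h ≫ pullback.fst _ _ = F.tMO (g₁ h) := pullback.lift_fst _ _ _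

theorem c_snd (h : ρ.Over' W r) : c F h ≫ pullback.snd _ _ = F.tYO W ≫ r := pullback.lift_snd _ _ _

theorem isPullback_c (h : ρ.Over' W r) :
    IsPullback (c F h) (F.tYO W) (pullback.snd (F.tYO E₀) ρ.q₁) r := by
  refine IsPullback.of_right ?_ (c_snd h) (IsPullback.of_hasPullback (F.tYO E₀) ρ.q₁)
  rw [c_fst, ← g₁_left h]
  exact F.isPullback_tMO (g₁ h)

theorem etale_q₁ (ρ : Rel E₀) : Etale ρ.q₁.left := E₀.E.property.2 _ _ _ ρ.sR.flip

/-- Two pieces agree on their overlaps. -/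
theorem agree {W' : Aff X} {r' : W'.E.obj.left ⟶ ρ.R} (h : ρ.Over' W r) (h' : ρ.Over' W' r') {Z : Scheme.{u}}
    (a : Z ⟶ F.TE W) (b : Z ⟶ F.TE W') (hab : a ≫ (c F h).left = b ≫ (c F h').left) :
    a ≫ F.tM (g₂ h) = b ≫ F.tM (g₂ h') := by
  let ER : EtOver X := EtOver.mk ((yon S).map ρ.q₁ ≫ E₀.E.obj.hom)
    ((RepWith _).comp_mem _ _ ((repWith_yon_map_iff _ _).2 ρ.etale_q₁) E₀.E.property)
  let k : W.E ⟶ ER := EtOver.homMk r (by
    change (yon S).map r ≫ (yon S).map ρ.q₁ ≫ E₀.E.obj.hom = W.E.obj.hom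
    rw [← Functor.map_comp_assoc]; exact h)
  let k' : W'.E ⟶ ER := EtOver.homMk r' (by
    change (yon S).map r' ≫ (yon S).map ρ.q₁ ≫ E₀.E.obj.hom = W'.E.obj.hom
    rw [← Functor.map_comp_assoc]; exact h')
  let Q := EtOver.pullbackObj k k'
  have sQ : IsPullback (pullback.fst r r').left (pullback.snd r r').left r.left r'.left :=
    (IsPullback.of_hasPullback r r').map (Over.forget S)
  have hsnd : ∀ {V : Aff X} {v : V.E.obj.left ⟶ ρ.R} (hv : ρ.Over' V v),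
      (c F hv).left ≫ (pullback.snd (F.tYO E₀) ρ.q₁).left = F.tY V ≫ v.left := fun hv =>
    congrArg (fun m : _ ⟶ _ => Over.Hom.left m) (c_snd (F := F) hv)
  have hfst : ∀ {V : Aff X} {v : V.E.obj.left ⟶ ρ.R} (hv : ρ.Over' V v),
      (c F hv).left ≫ (pullback.fst (F.tYO E₀) ρ.q₁).left = F.tM (g₁ hv) := fun hv =>
    congrArg (fun m : _ ⟶ _ => Over.Hom.left m) (c_fst (F := F) hv)
  obtain ⟨m, hm₁, hm₂⟩ := sQ.exists_lift (a ≫ F.tY W) (b ≫ F.tY W') (by
    rw [Category.assoc, Category.assoc, ← hsnd h, ← hsnd h', reassoc_of% hab])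
  let 𝒰 : Z.OpenCover := ((pullback r r').left.openCoverOfIsOpenCover
    (fun V : (pullback r r').left.affineOpens => V.1) (iSup_affineOpens_eq_top _)).pullback₁ m
  refine 𝒰.hom_ext _ _ fun V => ?_
  let Vo : Over S := Over.mk (V.1.ι ≫ (pullback r r').hom)
  let ιV : Vo ⟶ (pullback r r') := Over.homMk V.1.ι rfl
  let W'' : Aff X := ⟨EtOver.mk ((yon S).map ιV ≫ Q.obj.hom)
    ((RepWith _).comp_mem _ _ ((repWith_yon_map_iff _ ιV).2 (inferInstanceAs (Etale V.1.ι))) Q.property), V.2⟩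
  let j : W''.E ⟶ Q := EtOver.homMk ιV rfl
  let g := j ≫ EtOver.pullbackFst k k'
  let g' := j ≫ EtOver.pullbackSnd k k'
  have hgl : g.hom.left = ιV ≫ pullback.fst r r' := rfl
  have hgl' : g'.hom.left = ιV ≫ pullback.snd r r' := rfl
  have hgg : g ≫ g₁ h = g' ≫ g₁ h' := EtOver.hom_ext _ _ (by
    change g.hom.left ≫ r ≫ ρ.q₁ = g'.hom.left ≫ r' ≫ ρ.q₁
    rw [hgl, hgl', Category.assoc, Category.assoc, pullback.condition_assoc])
  have hgg₂ : g ≫ g₂ h = g' ≫ g₂ h' := EtOver.hom_ext _ _ (by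
    change g.hom.left ≫ r ≫ ρ.q₂ = g'.hom.left ≫ r' ≫ ρ.q₂
    rw [hgl, hgl', Category.assoc, Category.assoc, pullback.condition_assoc])
  let i : pullback m V.1.ι ⟶ Z := pullback.fst m V.1.ι
  let n : pullback m V.1.ι ⟶ W''.E.obj.left.left := pullback.snd m V.1.ι
  have hn : i ≫ m = n ≫ V.1.ι := pullback.condition
  have hgL : g.hom.left.left = V.1.ι ≫ (pullback.fst r r').left := rfl
  have hgL' : g'.hom.left.left = V.1.ι ≫ (pullback.snd r r').left := rfl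
  obtain ⟨l, hl₁, hl₂⟩ := (F.isPullback_tM g).exists_lift (i ≫ a) n (by
    rw [hgL, Category.assoc, ← hm₁, reassoc_of% hn])
  have hl' : l ≫ F.tM g' = i ≫ b := by
    refine (F.isPullback_tM (g₁ h')).hom_ext ?_ ?_
    · rw [Category.assoc, ← F.tM_comp, ← hgg, F.tM_comp, reassoc_of% hl₁, Category.assoc, ← hfst h, ← hfst h',
        reassoc_of% hab]
    · rw [Category.assoc, F.tM_tY g', reassoc_of% hl₂, hgL', Category.assoc, ← hm₂, reassoc_of% hn]
  change i ≫ a ≫ F.tM (g₂ h) = i ≫ b ≫ F.tM (g₂ h')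
  rw [← reassoc_of% hl₁, ← F.tM_comp, hgg₂, F.tM_comp, reassoc_of% hl']

/-- The transition map. -/
theorem exists_tau (F : AlgFam X) (ρ : Rel E₀) :
    ∃ τ : ρ.P₁ F ⟶ F.TO E₀, τ ≫ F.tYO E₀ = pullback.snd (F.tYO E₀) ρ.q₁ ≫ ρ.q₂ ∧
      ∀ (W : Aff X) (r : W.E.obj.left ⟶ ρ.R) (h : ρ.Over' W r), c F h ≫ τ = F.tMO (g₂ h) := by
  let Vo : ρ.R.left.affineOpens → Over S := fun V => Over.mk (V.1.ι ≫ ρ.R.hom)
  let ιV : ∀ V, Vo V ⟶ ρ.R := fun V => Over.homMk V.1.ι rfl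
  have he : ∀ V, RepWith @Etale ((yon S).map (ιV V ≫ ρ.q₁) ≫ E₀.E.obj.hom) := fun V =>
    (RepWith _).comp_mem _ _ ((repWith_yon_map_iff _ _).2 (by
      have := ρ.etale_q₁
      exact inferInstanceAs (Etale (V.1.ι ≫ ρ.q₁.left)))) E₀.E.property
  let EV : ρ.R.left.affineOpens → Aff X := fun V => ⟨EtOver.mk _ (he V), V.2⟩
  have hV : ∀ V, ρ.Over' (EV V) (ιV V) := fun V => rfl
  have hsq : ∀ V : ρ.R.left.affineOpens, IsPullback (c F (hV V)).left (F.tY (EV V))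
      (pullback.snd (F.tYO E₀) ρ.q₁).left V.1.ι := fun V => (isPullback_c (hV V)).map (Over.forget S)
  let 𝒱 : (ρ.P₁ F).left.OpenCover := Scheme.Cover.mkOfCovers ρ.R.left.affineOpens
    (fun V => F.TE (EV V)) (fun V => (c F (hV V)).left) (fun z => by
      obtain ⟨_, ⟨V, hV', rfl⟩, hz, -⟩ := ρ.R.left.isBasis_affineOpens.exists_subset_of_mem_open
        (Set.mem_univ ((pullback.snd (F.tYO E₀) ρ.q₁).left z)) isOpen_univ
      obtain ⟨w, hw, -⟩ := Scheme.Pullback.exists_preimage_pullback z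
        (⟨(pullback.snd (F.tYO E₀) ρ.q₁).left z, hz⟩ : Scheme.Opens.toScheme V)
        (f := (pullback.snd (F.tYO E₀) ρ.q₁).left) (g := Scheme.Opens.ι V) rfl
      refine ⟨⟨V, hV'⟩, (hsq ⟨V, hV'⟩).isoPullback.inv w, ?_⟩
      exact (congrArg (fun f : _ ⟶ _ => Scheme.Hom.toLRSHom f |>.base w) (hsq ⟨V, hV'⟩).isoPullback_inv_fst).trans hw)
    (fun V => MorphismProperty.of_isPullback (P := @IsOpenImmersion) (hsq V).flip
      (inferInstanceAs (IsOpenImmersion V.1.ι)))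
  let τ₀ := 𝒱.glueMorphisms (fun V => F.tM (g₂ (hV V)))
    fun V V' => agree (hV V) (hV V') _ _ pullback.condition
  have hτ₀ : ∀ V, (c F (hV V)).left ≫ τ₀ = F.tM (g₂ (hV V)) := fun V => 𝒱.ι_glueMorphisms _ _ V
  have hτS : τ₀ ≫ (F.TO E₀).hom = (ρ.P₁ F).hom := by
    refine 𝒱.hom_ext _ _ fun V => ?_
    change (c F (hV V)).left ≫ τ₀ ≫ _ = (c F (hV V)).left ≫ _
    rw [← Category.assoc, hτ₀, Over.w (c F (hV V))]
    exact Over.w (F.tMO (g₂ (hV V)))
  refine ⟨Over.homMk τ₀ hτS, Over.OverMorphism.ext (𝒱.hom_ext _ _ fun V => ?_),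
    fun W r h => Over.OverMorphism.ext ?_⟩
  · change (c F (hV V)).left ≫ τ₀ ≫ F.tY E₀ =
      (c F (hV V)).left ≫ (pullback.snd (F.tYO E₀) ρ.q₁).left ≫ ρ.q₂.left
    rw [reassoc_of% (hτ₀ V), F.tM_tY, reassoc_of% (hsq V).w]
    rfl
  change (c F h).left ≫ τ₀ = F.tM (g₂ h)
  refine Scheme.Cover.hom_ext (𝒱.pullback₁ (c F h).left) _ _ fun V => ?_
  change pullback.fst (c F h).left (c F (hV V)).left ≫ _ = pullback.fst (c F h).left (c F (hV V)).left ≫ _
  rw [agree h (hV V) _ _ pullback.condition, pullback.condition_assoc, hτ₀]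

end Rel

end Groth.Agent.AlgSpSpec
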