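import Groth.Agent.AlgSpSpec.Lift
import Groth.Agent.AlgSp.DescentRep
import Mathlib.AlgebraicGeometry.QuasiAffine
import Mathlib.AlgebraicGeometry.Morphisms.Flat

/-!
# The affine hull of a quasi-affine morphism
-/

universe u

open CategoryTheory CategoryTheory.Limits AlgebraicGeometry Opposite

set_option backward.isDefEq.respectTransparency false
set_option backward.isDefEq.respectTransparency.types false
set_option autoImplicit false

namespace Groth.Agent.AlgSpSpec

open _root_.AlgSp
open Groth.Agent.AlgSpQC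

/-- Global functions of qcqs schemes commute with flat affine base change. -/
theorem isPushout_appTop_of_flat {X Y S T : Scheme.{u}} {g : Y ⟶ X} {iY : Y ⟶ T} {iX : X ⟶ S} {f : T ⟶ S}
    (H : IsPullback g iY iX f) [IsAffine S] [IsAffine T] [CompactSpace X] [QuasiSeparatedSpace X] [Flat f] :
    IsPushout iX.appTop f.appTop g.appTop iY.appTop := by
  have h := (isIso_pushoutSection_iff H (US := ⊤) (UT := ⊤) (UX := ⊤) (UY := ⊤) le_top le_top (by simp)).1
    (isIso_pushoutSection_of_isQuasiSeparated_of_flat_right H le_top le_top (by simp) (isAffineOpen_top S)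
      (isAffineOpen_top T) isCompact_univ isQuasiSeparated_univ)
  simpa [Scheme.Hom.appTop, Scheme.Hom.app_eq_appLE] using h

variable {S : Scheme.{u}} {Y : Space S} {X : Sp S} {φ : X ⟶ Y.obj}

theorem representable_of_quasiAffine (h : IsQuasiAffineMor φ) (hφ : Representable φ) (E : EtOver Y.obj)
    [IsAffine E.obj.left.left] : (bcO hφ E).obj.left.left.IsQuasiAffine := by
  obtain ⟨W, i, fst, sq, hW⟩ := h (Z := E.obj.left) ‹_› E.obj.hom
  let e := (yon S).preimageIso ((EtOver.isPullback_bcObj hφ E).isoIsPullback _ _ sq)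
  have : IsIso e.hom.left := ((Over.forget S).mapIso e).isIso_hom
  have := hW
  exact Scheme.IsQuasiAffine.of_isAffineHom e.hom.left

/-- A quasi-affine morphism is a quasi-compact open immersion into an affine morphism. -/
theorem exists_affine_hull (h : IsQuasiAffineMor φ) (hφ : Representable φ) (E₀ : Aff Y.obj)
    (hs₀ : RepWith @Surjective E₀.E.obj.hom) :
    ∃ (W : Sp S) (θ : X ⟶ W) (ν : W ⟶ Y.obj), θ ≫ ν = φ ∧ IsAlgSpace W ∧ RepWith @IsOpenImmersion θ ∧
      RepWith @IsAffineHom ν := by
  have hqa : ∀ E : Aff Y.obj, (bcO hφ E.E).obj.left.left.IsQuasiAffine := fun E =>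
    representable_of_quasiAffine h hφ E.E
  let F : AlgFam Y.obj :=
    { A := fun E => CommRingCat.of (gr (bcO hφ E.E))
      str := fun E => CommRingCat.ofHom (gπ hφ E.E)
      map := fun g => CommRingCat.ofHom (gm (bcM hφ g))
      map_id := fun E => by
        rw [bcM, (EtOver.bc hφ).map_id]
        exact CommRingCat.hom_ext (RingHom.ext fun a => gm_id _ a)
      map_comp := fun g g' => by
        rw [bcM, (EtOver.bc hφ).map_comp]
        exact CommRingCat.hom_ext (RingHom.ext fun a => gm_comp _ _ a)
      cart := fun {E W} g => by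
        have := hqa E
        have : Flat g.hom.left.left := by
          have := EtOver.etale_left g
          infer_instance
        exact isPushout_appTop_of_flat (EtOver.isPullback_bcMap_left hφ g) }
  have hd₀ : ∀ E : Aff Y.obj, (bcO hφ E.E).obj.left.left.toSpecΓ ≫ F.tY E = (EtOver.bcπ hφ E.E).left := fun E => by
    change (bcO hφ E.E).obj.left.left.toSpecΓ ≫ Spec.map (EtOver.bcπ hφ E.E).left.appTop ≫
      E.E.obj.left.left.isoSpec.inv = _
    rw [← Scheme.toSpecΓ_naturality_assoc]
    change _ ≫ E.E.obj.left.left.isoSpec.hom ≫ _ = _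
    rw [Iso.hom_inv_id, Category.comp_id]
  let L : LiftData hφ F :=
    { d := fun E => Over.homMk (bcO hφ E.E).obj.left.left.toSpecΓ (by
        change _ ≫ F.tY E ≫ E.E.obj.left.hom = _
        rw [reassoc_of% (hd₀ E), Over.w (EtOver.bcπ hφ E.E)]
        rfl)
      d_tYO := fun E => Over.OverMorphism.ext (hd₀ E)
      nat := fun {E W} g => Over.OverMorphism.ext (Scheme.toSpecΓ_naturality (bcM hφ g).hom.left.left) }
  obtain ⟨D⟩ := exists_specData F E₀
  obtain ⟨θ, hθ, sq⟩ := L.exists_lift D hs₀
  have hopen : IsOpenImmersion (L.d E₀).left := by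
    have := hqa E₀
    exact inferInstanceAs (IsOpenImmersion (bcO hφ E₀.E).obj.left.left.toSpecΓ)
  have := Groth.Agent.AlgSp.isLocallySurjective_of_etale_surjective D.π D.etale D.surjective
  exact ⟨D.P, θ, D.νP, hθ, D.isAlgSpace,
    Groth.Agent.AlgSp.repWith_isOpenImmersion_of_baseChange θ D.π sq ((repWith_yon_map_iff _ _).2 hopen),
    D.isAffineHom hs₀⟩

end Groth.Agent.AlgSpSpec
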