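import Groth.Agent.AlgSpSpec.Descent
import Groth.Agent.AlgSp.ElemDist

/-!
# Maps into relative spectra
-/

universe u

open CategoryTheory CategoryTheory.Limits AlgebraicGeometry Opposite

set_option backward.isDefEq.respectTransparency false
set_option backward.isDefEq.respectTransparency.types false
set_option autoImplicit false

namespace Groth.Agent.AlgSpSpec

open _root_.AlgSp
open Groth.Agent.AlgSpQC

variable {S : Scheme.{u}} {Y : Sp S} {F : AlgFam Y} {N : Sp S} {φ : N ⟶ Y} (hν : Representable φ)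

/-- A compatible family of maps to the pieces. -/
structure LiftData (F : AlgFam Y) where
  /-- the maps -/
  d : ∀ E : Aff Y, (bcO hν E.E).obj.left ⟶ F.TO E
  d_tYO : ∀ E, d E ≫ F.tYO E = EtOver.bcπ hν E.E
  nat : ∀ {E W : Aff Y} (g : W.E ⟶ E.E), (bcM hν g).hom.left ≫ d E = d W ≫ F.tMO g

variable {hν}

/-- A compatible family of maps to the pieces gives a map to the relative spectrum. -/
theorem LiftData.exists_lift {E₀ : Aff Y} (D : SpecData F E₀) (L : LiftData hν F)
    (hs : RepWith @Surjective E₀.E.obj.hom) :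
    ∃ θ : N ⟶ D.P, θ ≫ D.νP = φ ∧ IsPullback (bcO hν E₀.E).obj.hom ((yon S).map (L.d E₀)) θ D.π := by
  let πN := (bcO hν E₀.E).obj.hom
  let νN := EtOver.bcπ hν E₀.E
  have sN : IsPullback πN ((yon S).map νN) φ E₀.E.obj.hom := EtOver.isPullback_bcObj hν E₀.E
  have hπNe : RepWith @Etale πN := (bcO hν E₀.E).property
  have hπNs : RepWith @Surjective πN := MorphismProperty.of_isPullback sN.flip hs
  obtain ⟨ρ⟩ := exists_rel E₀
  obtain ⟨K, u, v, sK⟩ := AlgSpB.exists_pullback_yon hπNe.1 πN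
  have hb : (yon S).map (u ≫ νN) ≫ E₀.E.obj.hom = (yon S).map (v ≫ νN) ≫ E₀.E.obj.hom := by
    rw [Functor.map_comp, Functor.map_comp, Category.assoc, Category.assoc, ← sN.w, ← Category.assoc, sK.w,
      Category.assoc]
  obtain ⟨r, hr⟩ := (yon S).map_surjective (ρ.sR.lift _ _ hb)
  have h₁ : r ≫ ρ.q₁ = u ≫ νN := (yon S).map_injective (by rw [Functor.map_comp, hr, ρ.sR.lift_fst])
  have h₂ : r ≫ ρ.q₂ = v ≫ νN := (yon S).map_injective (by rw [Functor.map_comp, hr, ρ.sR.lift_snd])
  let KV : ρ.R.left.affineOpens → Over S := fun V => Over.mk (pullback.fst r.left V.1.ι ≫ K.hom)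
  let i : ∀ V, KV V ⟶ K := fun V => Over.homMk (pullback.fst r.left V.1.ι) rfl
  have key : (yon S).map (u ≫ L.d E₀) ≫ D.π = (yon S).map (v ≫ L.d E₀) ≫ D.π := by
    refine Groth.Agent.AlgSp.InfGlue.hom_ext_cover i (fun V => inferInstanceAs (Etale (pullback.fst r.left V.1.ι)))
      (fun x => ?_) _ _ fun V => ?_
    · obtain ⟨_, ⟨V, hV, rfl⟩, hz, -⟩ := ρ.R.left.isBasis_affineOpens.exists_subset_of_mem_open
        (Set.mem_univ (r.left x)) isOpen_univ
      obtain ⟨w, hw, -⟩ := Scheme.Pullback.exists_preimage_pullback x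
        (⟨r.left x, hz⟩ : Scheme.Opens.toScheme V) (f := r.left) (g := Scheme.Opens.ι V) rfl
      exact ⟨⟨V, hV⟩, w, hw⟩
    · let Vo : Over S := Over.mk (V.1.ι ≫ ρ.R.hom)
      let ιV : Vo ⟶ ρ.R := Over.homMk V.1.ι rfl
      let W : Aff Y := ⟨EtOver.mk ((yon S).map (ιV ≫ ρ.q₁) ≫ E₀.E.obj.hom)
        ((RepWith _).comp_mem _ _ ((repWith_yon_map_iff _ _).2 (by
          have := ρ.etale_q₁
          exact inferInstanceAs (Etale (V.1.ι ≫ ρ.q₁.left)))) E₀.E.property), V.2⟩
      have hk : ρ.Over' W ιV := rfl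
      let n : KV V ⟶ W.E.obj.left := Over.homMk (pullback.snd r.left V.1.ι) (by
        change pullback.snd r.left V.1.ι ≫ V.1.ι ≫ ρ.R.hom = pullback.fst r.left V.1.ι ≫ K.hom
        rw [← pullback.condition_assoc]
        exact congrArg (pullback.fst r.left V.1.ι ≫ ·) (Over.w r))
      have hn : i V ≫ r = n ≫ ιV := Over.OverMorphism.ext pullback.condition
      obtain ⟨l, hl⟩ := (yon S).map_surjective ((EtOver.isPullback_bcObj hν W.E).lift
        ((yon S).map (i V ≫ u) ≫ πN) ((yon S).map n) (by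
          rw [Category.assoc, sN.w, ← Functor.map_comp_assoc, Category.assoc, ← h₁, reassoc_of% hn,
            Functor.map_comp, Category.assoc]
          rfl))
      have hlπ : (yon S).map l ≫ (bcO hν W.E).obj.hom = (yon S).map (i V ≫ u) ≫ πN := by
        rw [hl]; exact (EtOver.isPullback_bcObj hν W.E).lift_fst _ _ _
      have hlν : l ≫ EtOver.bcπ hν W.E = n := (yon S).map_injective (by
        rw [Functor.map_comp, hl]; exact (EtOver.isPullback_bcObj hν W.E).lift_snd _ _ _)
      have hk' : ∀ (g : W.E ⟶ E₀.E) (w : K ⟶ (bcO hν E₀.E).obj.left),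
          (yon S).map u ≫ πN = (yon S).map w ≫ πN → n ≫ g.hom.left = i V ≫ w ≫ νN →
          i V ≫ w = l ≫ (bcM hν g).hom.left := fun g w e₁ e₂ => by
        refine (yon S).map_injective (sN.hom_ext ?_ ?_)
        · rw [Functor.map_comp, Functor.map_comp, Category.assoc, Category.assoc, ← e₁]
          refine Eq.trans ?_ (congrArg ((yon S).map l ≫ ·) (EtOver.map_bcMap_fst hν g).symm)
          exact (Category.assoc _ _ _).symm.trans ((congrArg (· ≫ πN) ((yon S).map_comp _ _).symm).trans hlπ.symm)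
        · rw [← Functor.map_comp, ← Functor.map_comp, Category.assoc, Category.assoc]
          congr 1
          refine e₂.symm.trans ?_
          rw [← hlν, Category.assoc]
          exact congrArg (l ≫ ·) (EtOver.bcMap_snd hν g).symm
      have e₁ := hk' (Rel.g₁ hk) u rfl (by rw [Rel.g₁_left, ← reassoc_of% hn, h₁])
      have e₂ := hk' (Rel.g₂ hk) v sK.w (by rw [Rel.g₂_left, ← reassoc_of% hn, h₂])
      rw [← Functor.map_comp_assoc, ← Functor.map_comp_assoc, reassoc_of% e₁, reassoc_of% e₂, L.nat, L.nat,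
        ← Category.assoc, ← Category.assoc, Functor.map_comp, Category.assoc, D.map_eq W (Rel.g₁ hk) (Rel.g₂ hk),
        ← Category.assoc, ← Functor.map_comp]
  have := AlgSp.isLocallySurjective_of_etale_surjective πN hπNe hπNs
  obtain ⟨colN⟩ := AlgSp.isColimit_of_isPullback πN sK
  obtain ⟨θ, hθ⟩ := Cofork.IsColimit.desc' colN ((yon S).map (L.d E₀) ≫ D.π) (by
    rw [← Functor.map_comp_assoc, ← Functor.map_comp_assoc, key])
  change πN ≫ θ = (yon S).map (L.d E₀) ≫ D.π at hθ
  have : Epi πN := Sheaf.epi_of_isLocallySurjective πN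
  have hθν : θ ≫ D.νP = φ := by
    rw [← cancel_epi πN, reassoc_of% hθ, D.sq.w, ← Functor.map_comp_assoc, L.d_tYO]
    exact sN.w.symm
  refine ⟨θ, hθν, IsPullback.of_bot ?_ hθ D.sq⟩
  rw [← Functor.map_comp, L.d_tYO, hθν]
  exact sN

/-- A property of the piece descends to the map into the relative spectrum. -/
theorem repWith_lift {E₀ : Aff Y} (D : SpecData F E₀) {θ : N ⟶ D.P}
    {πN : (yon S).obj (bcO hν E₀.E).obj.left ⟶ N} {d : (bcO hν E₀.E).obj.left ⟶ F.TO E₀}
    (sq : IsPullback πN ((yon S).map d) θ D.π) (P : MorphismProperty Scheme.{u}) [P.IsStableUnderBaseChange]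
    [P.IsLocalAtTarget Scheme.fppfPrecoverage] (hP : P d.left) (ha : IsAffineHom d.left) : RepWith P θ := by
  have := AlgSp.isLocallySurjective_of_etale_surjective D.π D.etale D.surjective
  exact AlgSp.repWith_of_isPullback_of_isLocallySurjective θ
    (AlgSp.repWith_isAffineHom_of_baseChange θ D.π sq ((repWith_yon_map_iff _ _).2 ha)).1 _ _ _ sq P
    ((repWith_yon_map_iff P d).2 hP)

end Groth.Agent.AlgSpSpec
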