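import Mathlib.CategoryTheory.Limits.Shapes.WidePullbacks
import Mathlib.CategoryTheory.Limits.Shapes.Pullback.IsPullback.Basic
import Mathlib.CategoryTheory.MorphismProperty.Limits
import Mathlib.Data.Finset.Basic

/-!
# Finite fibre products indexed by finite sets
-/

universe u v w

open CategoryTheory CategoryTheory.Limits

set_option autoImplicit false
set_option backward.isDefEq.respectTransparency false
set_option backward.isDefEq.respectTransparency.types false

namespace Groth.Agent.AlgSpSpec.FinProd

variable {C : Type u} [Category.{v} C] [HasLimitsOfSize.{w, w} C] {K : Type w} {B : C} {P : K → C}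
  (ν : ∀ k, P k ⟶ B)

/-- The fibre product over a finite set. -/
noncomputable def W (s : Finset K) : C := widePullback B (fun k : s => P k.1) (fun k => ν k.1)

/-- The structure map. -/
noncomputable def base (s : Finset K) : W ν s ⟶ B := WidePullback.base _

/-- The projections. -/
noncomputable def proj (s : Finset K) (k : K) (h : k ∈ s) : W ν s ⟶ P k :=
  WidePullback.π (fun k : s => ν k.1) ⟨k, h⟩

theorem proj_ν (s : Finset K) (k : K) (h : k ∈ s) : proj ν s k h ≫ ν k = base ν s :=
  WidePullback.π_arrow _ (⟨k, h⟩ : s)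

variable {ν}

theorem hom_ext {s : Finset K} {T : C} {f g : T ⟶ W ν s} (hb : f ≫ base ν s = g ≫ base ν s)
    (h : ∀ k hk, f ≫ proj ν s k hk = g ≫ proj ν s k hk) : f = g :=
  WidePullback.hom_ext _ _ _ (fun k => h k.1 k.2) hb

theorem exists_lift {s : Finset K} {T : C} (b : T ⟶ B) (f : ∀ k ∈ s, T ⟶ P k) (h : ∀ k hk, f k hk ≫ ν k = b) :
    ∃ l : T ⟶ W ν s, l ≫ base ν s = b ∧ ∀ k hk, l ≫ proj ν s k hk = f k hk :=
  ⟨WidePullback.lift b (fun k => f k.1 k.2) (fun k => h k.1 k.2), WidePullback.lift_base _ _ _ _,
    fun k hk => WidePullback.lift_π _ _ _ _ (⟨k, hk⟩ : s)⟩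

variable (ν)

/-- The projection to a smaller set. -/
noncomputable def re {s s' : Finset K} (h : s ⊆ s') : W ν s' ⟶ W ν s :=
  (exists_lift (base ν s') (fun k hk => proj ν s' k (h hk)) fun k hk => proj_ν ν s' k (h hk)).choose

theorem re_base {s s' : Finset K} (h : s ⊆ s') : re ν h ≫ base ν s = base ν s' :=
  (exists_lift (base ν s') (fun k hk => proj ν s' k (h hk)) fun k hk => proj_ν ν s' k (h hk)).choose_spec.1

theorem re_proj {s s' : Finset K} (h : s ⊆ s') (k : K) (hk : k ∈ s) :
    re ν h ≫ proj ν s k hk = proj ν s' k (h hk) :=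
  (exists_lift (base ν s') (fun k hk => proj ν s' k (h hk)) fun k hk => proj_ν ν s' k (h hk)).choose_spec.2 k hk

theorem re_refl (s : Finset K) : re ν (Finset.Subset.refl s) = 𝟙 _ :=
  hom_ext (by rw [re_base, Category.id_comp]) fun k hk => by rw [re_proj, Category.id_comp]

theorem re_trans {s s' s'' : Finset K} (h : s ⊆ s') (h' : s' ⊆ s'') : re ν h' ≫ re ν h = re ν (h.trans h') :=
  hom_ext (by rw [Category.assoc, re_base, re_base, re_base]) fun k hk => by
    rw [Category.assoc, re_proj, re_proj, re_proj]

theorem isIso_base_empty : IsIso (base ν (∅ : Finset K)) := by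
  obtain ⟨l, hl, -⟩ := exists_lift (ν := ν) (s := (∅ : Finset K)) (𝟙 B) (fun k hk => absurd hk (by simp))
    (fun k hk => absurd hk (by simp))
  exact ⟨l, hom_ext (by rw [Category.assoc, hl, Category.comp_id, Category.id_comp]) (fun k hk => absurd hk (by simp)), hl⟩

theorem isPullback_insert [DecidableEq K] {s : Finset K} (a : K) (ha : a ∉ s) :
    IsPullback (re ν (Finset.subset_insert a s)) (proj ν (insert a s) a (Finset.mem_insert_self a s)) (base ν s)
      (ν a) := by
  have w : re ν (Finset.subset_insert a s) ≫ base ν s = proj ν (insert a s) a (Finset.mem_insert_self a s) ≫ ν a := by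
    rw [re_base, proj_ν]
  have key : ∀ c : PullbackCone (base ν s) (ν a), ∃ l : c.pt ⟶ W ν (insert a s),
      l ≫ re ν (Finset.subset_insert a s) = c.fst ∧ l ≫ proj ν _ a (Finset.mem_insert_self a s) = c.snd := fun c => by
    let f : ∀ k ∈ insert a s, c.pt ⟶ P k := fun k hk =>
      if h : k = a then h.symm ▸ c.snd else c.fst ≫ proj ν s k ((Finset.mem_insert.1 hk).resolve_left h)
    obtain ⟨l, hl₁, hl₂⟩ := exists_lift (ν := ν) (c.fst ≫ base ν s) f fun k hk => by
      by_cases h : k = a
      · subst h
        simp only [f, dite_true]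
        exact c.condition.symm
      · simp only [f, dif_neg h, Category.assoc, proj_ν]
    have hsnd : l ≫ proj ν _ a (Finset.mem_insert_self a s) = c.snd := by
      rw [hl₂]; simp [f]
    refine ⟨l, hom_ext (by rw [Category.assoc, re_base, hl₁]) fun k hk => ?_, hsnd⟩
    rw [Category.assoc, re_proj, hl₂]
    simp only [f, dif_neg (ne_of_mem_of_not_mem hk ha)]
  choose l hl₁ hl₂ using key
  exact IsPullback.of_isLimit' ⟨w⟩ (PullbackCone.IsLimit.mk _ l hl₁ hl₂ fun c m h₁ h₂ =>
    hom_ext (by rw [← re_base ν (Finset.subset_insert a s), reassoc_of% h₁, reassoc_of% (hl₁ c)]) fun k hk => by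
      rcases Finset.mem_insert.1 hk with rfl | h
      · rw [h₂, hl₂]
      · rw [← re_proj ν (Finset.subset_insert a s) k h, reassoc_of% h₁, reassoc_of% (hl₁ c)])

/-- A property of the factors holds for the finite fibre products. -/
theorem prop_base (Q : MorphismProperty C) [Q.IsStableUnderBaseChange] [Q.IsStableUnderComposition]
    (hiso : ∀ {X Y : C} (f : X ⟶ Y) [IsIso f], Q f) (h : ∀ k, Q (ν k)) (s : Finset K) : Q (base ν s) := by
  classical
  induction s using Finset.induction with
  | empty => have := isIso_base_empty ν; exact hiso _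
  | insert a s ha ih =>
    rw [← re_base ν (Finset.subset_insert a s)]
    exact Q.comp_mem _ _ (MorphismProperty.of_isPullback (isPullback_insert ν a ha).flip (h a)) ih

end Groth.Agent.AlgSpSpec.FinProd
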