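import Groth.Agent.AlgSpSpec.Through
import Groth.Agent.AlgSpSpec.Prod
import Groth.Agent.AlgSpSpec.Approx

/-!
# Stages of finite presentation below an affine morphism
-/

universe u

open CategoryTheory CategoryTheory.Limits AlgebraicGeometry Opposite

set_option backward.isDefEq.respectTransparency false
set_option backward.isDefEq.respectTransparency.types false
set_option autoImplicit false

namespace Groth.Agent.AlgSpSpec

open _root_.AlgSp
open Groth.Agent.AlgSp.CartierDesc (subOver subι)
open Groth.Agent.AlgSpQC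

variable {S : Scheme.{u}}

/-- A family of affine morphisms of finite presentation through which an affine morphism factors, with all
functions on a chart coming from it. -/
structure Basic (Y : Space S) (X : Sp S) (f : X ⟶ Y.obj) where
  /-- chart -/
  E₀ : Aff Y.obj
  surj : RepWith @Surjective E₀.E.obj.hom
  rep : Representable f
  aff : IsAffineMor f
  qc : IsQuasiCompactSp Y.obj
  qs : IsQuasiSeparatedSp Y.obj
  /-- index -/
  K : Type u
  /-- the spaces -/
  P : K → Sp S
  /-- the maps -/
  θ : ∀ k, X ⟶ P k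
  /-- the structure maps -/
  ν : ∀ k, P k ⟶ Y.obj
  fac : ∀ k, θ k ≫ ν k = f
  affine : ∀ k, RepWith @IsAffineHom (ν k)
  lfp : ∀ k, RepWith @LocallyOfFinitePresentation (ν k)
  through : ∀ b : gr (bcO rep E₀.E), ∃ (k : K) (T : Over S) (fst : (yon S).obj T ⟶ P k)
    (snd : T ⟶ E₀.E.obj.left) (d : (bcO rep E₀.E).obj.left ⟶ T),
        IsPullback fst ((yon S).map snd) (ν k) E₀.E.obj.hom ∧ d ≫ snd = EtOver.bcπ rep E₀.E ∧
        (yon S).map d ≫ fst = (bcO rep E₀.E).obj.hom ≫ θ k ∧ ∃ a : Γ(T.left, ⊤), d.left.appTop a = b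

/-- An affine morphism to a qcqs space has such a family. -/
theorem exists_basic [QuasiSeparatedSpace ↥S] {Y : Space S} {X : Sp S} {f : X ⟶ Y.obj} (haff : IsAffineMor f)
    (hqc : IsQuasiCompactSp Y.obj) (hqs : IsQuasiSeparatedSp Y.obj) : Nonempty (Basic Y X f) := by
  have hν : Representable f := ((Groth.Agent.AlgSp.isAffineMor_iff f).1 haff).1
  obtain ⟨U, p, hU, hp, hps⟩ := AlgSpEN.exists_affine_atlas Y hqc
  let E₀ : Aff Y.obj := ⟨EtOver.mk p hp, hU⟩
  choose P θ ν hfac hP haf hfp T fst snd d h using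
    exists_affine_fp_through haff hν hqc hqs E₀ hps
  exact ⟨⟨E₀, hps, hν, haff, hqc, hqs, gr (bcO hν E₀.E), P, θ, ν, hfac, haf, hfp,
    fun b => ⟨b, T b, fst b, snd b, d b, h b⟩⟩⟩

namespace Basic

variable {Y : Space S} {X : Sp S} {f : X ⟶ Y.obj} (B : Basic Y X f)

/-- The chart of the base. -/
abbrev U : Over S := B.E₀.E.obj.left

/-- The chart map of the base. -/
abbrev p₀ : (yon S).obj B.U ⟶ Y.obj := B.E₀.E.obj.hom

/-- The chart of the source. -/
noncomputable abbrev XU : Over S := (bcO B.rep B.E₀.E).obj.left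

/-- The chart map of the source. -/
noncomputable abbrev πX : (yon S).obj B.XU ⟶ X := (bcO B.rep B.E₀.E).obj.hom

theorem isPullback_X : IsPullback B.πX ((yon S).map (EtOver.bcπ B.rep B.E₀.E)) f B.p₀ :=
  EtOver.isPullback_bcObj B.rep B.E₀.E

theorem etale_πX : RepWith @Etale B.πX := (bcO B.rep B.E₀.E).property

theorem surjective_πX : RepWith @Surjective B.πX := MorphismProperty.of_isPullback B.isPullback_X.flip B.surj

instance isAffine_U : IsAffine B.U.left := B.E₀.isAffine

instance isAffine_XU : IsAffine B.XU.left :=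
  (isAffine_bcO_and_map (hf := B.rep) B.aff B.E₀.E)

/-- The products. -/
noncomputable abbrev W (s : Finset B.K) : Sp S := FinProd.W B.ν s

/-- The structure maps of the products. -/
noncomputable abbrev base (s : Finset B.K) : B.W s ⟶ Y.obj := FinProd.base B.ν s

theorem affine_base (s : Finset B.K) : RepWith @IsAffineHom (B.base s) :=
  FinProd.prop_base B.ν (RepWith @IsAffineHom)
    (fun g _ => AlgSpB.repWith_of_isIso (P := @IsAffineHom) g) B.affine s

theorem lfp_base (s : Finset B.K) : RepWith @LocallyOfFinitePresentation (B.base s) :=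
  haveI : MorphismProperty.ContainsIdentities @LocallyOfFinitePresentation.{u} :=
    ⟨fun Z => (inferInstance : LocallyOfFinitePresentation (𝟙 Z))⟩
  FinProd.prop_base B.ν (RepWith @LocallyOfFinitePresentation)
    (fun g _ => AlgSpB.repWith_of_isIso (P := @LocallyOfFinitePresentation) g) B.lfp s

theorem isAlgSpace_W (s : Finset B.K) : IsAlgSpace (B.W s) :=
  Groth.Agent.AlgSp.isAlgSpace_of_representable _ (B.affine_base s).1 Y.property

theorem qcqs_W [QuasiSeparatedSpace ↥S] (s : Finset B.K) :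
    IsQuasiCompactSp (B.W s) ∧ IsQuasiSeparatedSp (B.W s) :=
  qcqs_of_affine (B.isAlgSpace_W s) Y.property (B.affine_base s) B.qc B.qs

/-- The chart of a product. -/
noncomputable def T (s : Finset B.K) : Over S := (B.affine_base s).1.pullback B.p₀

/-- The chart map of a product. -/
noncomputable def pT (s : Finset B.K) : (yon S).obj (B.T s) ⟶ B.W s := (B.affine_base s).1.fst B.p₀

/-- The projection of a chart of a product. -/
noncomputable def qT (s : Finset B.K) : B.T s ⟶ B.U := (B.affine_base s).1.snd B.p₀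

theorem isPullback_T (s : Finset B.K) : IsPullback (B.pT s) ((yon S).map (B.qT s)) (B.base s) B.p₀ :=
  (B.affine_base s).1.isPullback B.p₀

theorem etale_pT (s : Finset B.K) : RepWith @Etale (B.pT s) :=
  MorphismProperty.of_isPullback (B.isPullback_T s).flip B.E₀.E.property

theorem surjective_pT (s : Finset B.K) : RepWith @Surjective (B.pT s) :=
  MorphismProperty.of_isPullback (B.isPullback_T s).flip B.surj

instance isAffine_T (s : Finset B.K) : IsAffine (B.T s).left := by
  have : IsAffineHom (B.qT s).left := (B.affine_base s).2 _ _ _ (B.isPullback_T s)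
  exact isAffine_of_isAffineHom (B.qT s).left

theorem exists_θW (s : Finset B.K) :
    ∃ l : X ⟶ B.W s, l ≫ B.base s = f ∧ ∀ k hk, l ≫ FinProd.proj B.ν s k hk = B.θ k :=
  FinProd.exists_lift f (fun k _ => B.θ k) fun k _ => B.fac k

/-- The map to a product. -/
noncomputable def θW (s : Finset B.K) : X ⟶ B.W s := (B.exists_θW s).choose

theorem θW_base (s : Finset B.K) : B.θW s ≫ B.base s = f := (B.exists_θW s).choose_spec.1

theorem θW_proj (s : Finset B.K) (k : B.K) (hk : k ∈ s) : B.θW s ≫ FinProd.proj B.ν s k hk = B.θ k :=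
  (B.exists_θW s).choose_spec.2 k hk

theorem θW_re {s s' : Finset B.K} (h : s ⊆ s') : B.θW s' ≫ FinProd.re B.ν h = B.θW s :=
  FinProd.hom_ext (by rw [Category.assoc, FinProd.re_base]; exact (B.θW_base s').trans (B.θW_base s).symm)
    fun k hk => by rw [Category.assoc, FinProd.re_proj, B.θW_proj, B.θW_proj]

theorem exists_d (s : Finset B.K) :
    ∃ d : B.XU ⟶ B.T s, (yon S).map d ≫ B.pT s = B.πX ≫ B.θW s ∧ d ≫ B.qT s = EtOver.bcπ B.rep B.E₀.E := by
  obtain ⟨d, hd⟩ := (yon S).map_surjective ((B.isPullback_T s).lift (B.πX ≫ B.θW s)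
    ((yon S).map (EtOver.bcπ B.rep B.E₀.E)) (by rw [Category.assoc, B.θW_base]; exact B.isPullback_X.w))
  exact ⟨d, by rw [hd, (B.isPullback_T s).lift_fst],
    (yon S).map_injective (by rw [Functor.map_comp, hd, (B.isPullback_T s).lift_snd])⟩

/-- The chart of the map to a product. -/
noncomputable def d (s : Finset B.K) : B.XU ⟶ B.T s := (B.exists_d s).choose

theorem d_pT (s : Finset B.K) : (yon S).map (B.d s) ≫ B.pT s = B.πX ≫ B.θW s := (B.exists_d s).choose_spec.1

theorem d_qT (s : Finset B.K) : B.d s ≫ B.qT s = EtOver.bcπ B.rep B.E₀.E := (B.exists_d s).choose_spec.2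

theorem isPullback_d (s : Finset B.K) : IsPullback B.πX ((yon S).map (B.d s)) (B.θW s) (B.pT s) :=
  IsPullback.of_bot (by rw [← Functor.map_comp, B.d_qT, B.θW_base]; exact B.isPullback_X) (B.d_pT s).symm
    (B.isPullback_T s)

theorem exists_re {s s' : Finset B.K} (h : s ⊆ s') :
    ∃ r : B.T s' ⟶ B.T s, (yon S).map r ≫ B.pT s = B.pT s' ≫ FinProd.re B.ν h ∧ r ≫ B.qT s = B.qT s' := by
  obtain ⟨r, hr⟩ := (yon S).map_surjective ((B.isPullback_T s).lift (B.pT s' ≫ FinProd.re B.ν h)
    ((yon S).map (B.qT s')) (by rw [Category.assoc, FinProd.re_base]; exact (B.isPullback_T s').w))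
  exact ⟨r, by rw [hr, (B.isPullback_T s).lift_fst],
    (yon S).map_injective (by rw [Functor.map_comp, hr, (B.isPullback_T s).lift_snd])⟩

/-- The chart of a projection. -/
noncomputable def tr {s s' : Finset B.K} (h : s ⊆ s') : B.T s' ⟶ B.T s := (B.exists_re h).choose

theorem tr_pT {s s' : Finset B.K} (h : s ⊆ s') :
    (yon S).map (B.tr h) ≫ B.pT s = B.pT s' ≫ FinProd.re B.ν h := (B.exists_re h).choose_spec.1

theorem tr_qT {s s' : Finset B.K} (h : s ⊆ s') : B.tr h ≫ B.qT s = B.qT s' := (B.exists_re h).choose_spec.2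

theorem isPullback_tr {s s' : Finset B.K} (h : s ⊆ s') :
    IsPullback (B.pT s') ((yon S).map (B.tr h)) (FinProd.re B.ν h) (B.pT s) :=
  IsPullback.of_bot (by rw [← Functor.map_comp, B.tr_qT, FinProd.re_base]; exact B.isPullback_T s')
    (B.tr_pT h).symm (B.isPullback_T s)

theorem d_tr {s s' : Finset B.K} (h : s ⊆ s') : B.d s' ≫ B.tr h = B.d s :=
  (yon S).map_injective ((B.isPullback_T s).hom_ext
    (by rw [Functor.map_comp, Category.assoc, B.tr_pT, ← Category.assoc, B.d_pT, Category.assoc, B.θW_re, B.d_pT])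
    (by rw [← Functor.map_comp, ← Functor.map_comp, Category.assoc, B.tr_qT, B.d_qT, B.d_qT]))

/-- The ideal of the image on a chart. -/
noncomputable def ker (s : Finset B.K) : (B.T s).left.IdealSheafData := (B.d s).left.ker

theorem exists_rel (s : Finset B.K) : ∃ (R : Over S) (a b : R ⟶ B.T s),
    IsPullback ((yon S).map a) ((yon S).map b) (B.pT s) (B.pT s) :=
  Groth.Agent.AlgSp.exists_isPullback_yon (B.isAlgSpace_W s).diag _ _

/-- The relation on a chart. -/
noncomputable def R (s : Finset B.K) : Over S := (B.exists_rel s).choose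

/-- The first projection. -/
noncomputable def r₁ (s : Finset B.K) : B.R s ⟶ B.T s := (B.exists_rel s).choose_spec.choose

/-- The second projection. -/
noncomputable def r₂ (s : Finset B.K) : B.R s ⟶ B.T s := (B.exists_rel s).choose_spec.choose_spec.choose

theorem isPullback_R (s : Finset B.K) :
    IsPullback ((yon S).map (B.r₁ s)) ((yon S).map (B.r₂ s)) (B.pT s) (B.pT s) :=
  (B.exists_rel s).choose_spec.choose_spec.choose_spec

theorem comap_ker (s : Finset B.K) : (B.ker s).comap (B.r₁ s).left = (B.ker s).comap (B.r₂ s).left := by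
  have sR := B.isPullback_R s
  have h1 : Etale (B.r₁ s).left := (B.etale_pT s).2 _ _ _ sR.flip
  have h2 : Etale (B.r₂ s).left := (B.etale_pT s).2 _ _ _ sR
  have := h1
  have := h2
  have p1 := IsPullback.of_hasPullback (B.d s) (B.r₁ s)
  have p2 := IsPullback.of_hasPullback (B.d s) (B.r₂ s)
  have s1 := (p1.map (yon S)).paste_horiz (B.isPullback_d s)
  have s2 := (p2.map (yon S)).paste_horiz (B.isPullback_d s)
  rw [← sR.w] at s2
  let e := (yon S).preimageIso (s1.isoIsPullback _ _ s2)
  have he : e.hom ≫ pullback.snd (B.d s) (B.r₂ s) = pullback.snd (B.d s) (B.r₁ s) := (yon S).map_injective (by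
    rw [Functor.map_comp]
    simp only [e, Functor.preimageIso_hom, Functor.map_preimage]
    exact IsPullback.isoIsPullback_hom_snd _ _ _ _)
  have : IsIso e.hom.left := ((Over.forget S).mapIso e).isIso_hom
  have k1 : (pullback.snd (B.d s) (B.r₁ s)).left.ker = (B.d s).left.ker.comap (B.r₁ s).left :=
    Groth.Agent.AlgSp.KerFlat.ker_of_isPullback (p1.map (Over.forget S))
  have k2 : (pullback.snd (B.d s) (B.r₂ s)).left.ker = (B.d s).left.ker.comap (B.r₂ s).left :=
    Groth.Agent.AlgSp.KerFlat.ker_of_isPullback (p2.map (Over.forget S))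
  have he' : e.hom.left ≫ (pullback.snd (B.d s) (B.r₂ s)).left = (pullback.snd (B.d s) (B.r₁ s)).left :=
    congrArg (fun m : _ ⟶ _ => Over.Hom.left m) he
  refine k1.symm.trans (Eq.trans ?_ k2)
  rw [← he']
  exact Scheme.Hom.ker_comp_of_isIso e.hom.left _

/-- The stages. -/
def Node : Type u := Σ s : Finset B.K,
  {J : (B.T s).left.IdealSheafData //
    (∀ V, (J.ideal V).FG) ∧ J ≤ B.ker s ∧ J.comap (B.r₁ s).left = J.comap (B.r₂ s).left}

variable {B}

theorem exists_node [QuasiSeparatedSpace ↥S] (s : Finset B.K) {K : (B.T s).left.IdealSheafData}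
    (hK : ∀ V, (K.ideal V).FG) (hle : K ≤ B.ker s) : ∃ n : B.Node, ∃ h : n.1 = s, K ≤ h ▸ n.2.1 := by
  obtain ⟨J, h1, h2, h3, h4⟩ := AlgSpB.IdealApprox.exists_fg_invariant (Y := ⟨B.W s, B.isAlgSpace_W s⟩)
    (B.qcqs_W s).1 (B.qcqs_W s).2 (B.etale_pT s) (B.surjective_pT s) (B.isPullback_R s) hK (B.comap_ker s) hle
  exact ⟨⟨s, J, h1, h3, h4⟩, rfl, h2⟩

theorem exists_closed_node (n : B.Node) : ∃ (Z : Sp S) (i : Z ⟶ B.W n.1)
    (fst : (yon S).obj (subOver (B.T n.1) n.2.1) ⟶ Z),
    IsAlgSpace Z ∧ RepWith @IsClosedImmersion i ∧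
      IsPullback fst ((yon S).map (subι (B.T n.1) n.2.1)) i (B.pT n.1) :=
  Groth.Agent.AlgSp.ClosedSub.exists_closed (B.etale_pT n.1) (B.surjective_pT n.1) (B.isPullback_R n.1) n.2.1
    n.2.2.2.2

/-- The space of a stage. -/
noncomputable def Z (n : B.Node) : Sp S := (exists_closed_node n).choose

/-- The inclusion of a stage. -/
noncomputable def inc (n : B.Node) : Z n ⟶ B.W n.1 := (exists_closed_node n).choose_spec.choose

/-- The chart of a stage. -/
noncomputable abbrev C (n : B.Node) : Over S := subOver (B.T n.1) n.2.1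

/-- The chart map of a stage. -/
noncomputable def pC (n : B.Node) : (yon S).obj (C n) ⟶ Z n := (exists_closed_node n).choose_spec.choose_spec.choose

theorem isAlgSpace_Z (n : B.Node) : IsAlgSpace (Z n) :=
  (exists_closed_node n).choose_spec.choose_spec.choose_spec.1

theorem closed_inc (n : B.Node) : RepWith @IsClosedImmersion (inc n) :=
  (exists_closed_node n).choose_spec.choose_spec.choose_spec.2.1

theorem isPullback_C (n : B.Node) :
    IsPullback (pC n) ((yon S).map (subι (B.T n.1) n.2.1)) (inc n) (B.pT n.1) :=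
  (exists_closed_node n).choose_spec.choose_spec.choose_spec.2.2

instance mono_inc (n : B.Node) : Mono (inc n) := AlgSpB.mono_of_isClosedImmersion (closed_inc n)

noncomputable instance : Preorder B.Node where
  le a b := ∃ h : a.1 ⊆ b.1, ∃ k : Z b ⟶ Z a, k ≫ inc a = inc b ≫ FinProd.re B.ν h
  le_refl a := ⟨Finset.Subset.refl _, 𝟙 _, by rw [FinProd.re_refl, Category.id_comp, Category.comp_id]⟩
  le_trans a b c := by
    rintro ⟨h, k, hk⟩ ⟨h', k', hk'⟩
    exact ⟨h.trans h', k' ≫ k, by rw [Category.assoc, hk, reassoc_of% hk', FinProd.re_trans]⟩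

theorem etale_pC (n : B.Node) : RepWith @Etale (pC n) :=
  MorphismProperty.of_isPullback (isPullback_C n).flip (B.etale_pT n.1)

theorem surjective_pC (n : B.Node) : RepWith @Surjective (pC n) :=
  MorphismProperty.of_isPullback (isPullback_C n).flip (B.surjective_pT n.1)

theorem le_of_comap_le {a b : B.Node} (h : a.1 ⊆ b.1) (hJ : a.2.1.comap (B.tr h).left ≤ b.2.1) : a ≤ b := by
  refine ⟨h, (Groth.Agent.AlgSp.ClosedSub.exists_factor_iff (closed_inc a) (isPullback_C a)
    (inc b ≫ FinProd.re B.ν h) (pC b) (etale_pC b) (surjective_pC b) (subι (B.T b.1) b.2.1 ≫ B.tr h) ?_).2 ?_⟩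
  · rw [Functor.map_comp, Category.assoc, B.tr_pT, ← Category.assoc, (isPullback_C b).w, Category.assoc]
  · refine (Scheme.IdealSheafData.le_map_iff_comap_le.2 hJ).trans (le_of_eq ?_)
    change _ = (b.2.1.subschemeι ≫ (B.tr h).left).ker
    rw [← Scheme.IdealSheafData.map_ker, Scheme.IdealSheafData.ker_subschemeι]

theorem exists_toZ (n : B.Node) : ∃ k : X ⟶ Z n, k ≫ inc n = B.θW n.1 :=
  (Groth.Agent.AlgSp.ClosedSub.exists_factor_iff (closed_inc n) (isPullback_C n) (B.θW n.1) B.πX B.etale_πX
    B.surjective_πX (B.d n.1) (B.d_pT n.1).symm).2 n.2.2.2.1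

end Basic

end Groth.Agent.AlgSpSpec
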