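import Groth.Agent.AlgSpSpec.Nodes
import Groth.Agent.AlgSp.LimSp

/-!
# An affine morphism is the limit of its stages of finite presentation
-/

universe u

open CategoryTheory CategoryTheory.Limits AlgebraicGeometry Opposite

set_option backward.isDefEq.respectTransparency false
set_option backward.isDefEq.respectTransparency.types false
set_option autoImplicit false

namespace Groth.Agent.AlgSpSpec

open _root_.AlgSp
open Groth.Agent.AlgSp.CartierDesc (subOver subι)
open Groth.Agent.AlgSpQC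

variable {S : Scheme.{u}}

/-- Pullbacks of ideals of finite type are of finite type. -/
theorem fg_comap {T' T : Scheme.{u}} (g : T' ⟶ T) {I : T.IdealSheafData} (h : ∀ V, (I.ideal V).FG) :
    ∀ V, ((I.comap g).ideal V).FG := by
  rw [← LimLib.lfp_subschemeι_iff]
  have := (LimLib.lfp_subschemeι_iff I).2 h
  have e : (I.comap g).subschemeι = (I.comapIso g).hom ≫ pullback.fst g I.subschemeι := by
    rw [← Scheme.IdealSheafData.comapIso_inv_subschemeι, Iso.hom_inv_id_assoc]
  rw [e]
  infer_instance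

theorem fg_ofIdealTop_span {T : Scheme.{u}} [IsAffine T] (s : Finset Γ(T, ⊤)) :
    ∀ V, ((Scheme.IdealSheafData.ofIdealTop (Ideal.span (s : Set Γ(T, ⊤)))).ideal V).FG := fun V => by
  rw [Scheme.IdealSheafData.ofIdealTop_ideal]
  exact Ideal.FG.map ⟨s, rfl⟩ _

theorem ofIdealTop_le_ker {T' T : Scheme.{u}} [IsAffine T] (g : T' ⟶ T) {s : Finset Γ(T, ⊤)}
    (h : ∀ x ∈ s, g.appTop x = 0) : Scheme.IdealSheafData.ofIdealTop (Ideal.span (s : Set Γ(T, ⊤))) ≤ g.ker := by
  refine Scheme.IdealSheafData.le_of_isAffine ?_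
  rw [Scheme.ker_of_isAffine, Scheme.IdealSheafData.ofIdealTop_ideal, Scheme.IdealSheafData.ofIdealTop_ideal]
  exact Ideal.map_mono (Ideal.span_le.2 fun x hx => RingHom.mem_ker.2 (h x hx))

theorem appTop_eq_zero_of_mem {T : Scheme.{u}} [IsAffine T] (I : T.IdealSheafData) {x : Γ(T, ⊤)}
    (hx : x ∈ I.ideal ⟨⊤, isAffineOpen_top T⟩) : I.subschemeι.appTop x = 0 := by
  have e : RingHom.ker I.subschemeι.appTop.hom = I.ideal ⟨⊤, isAffineOpen_top T⟩ :=
    Scheme.IdealSheafData.ker_subschemeι_app I ⟨⊤, isAffineOpen_top T⟩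
  exact RingHom.mem_ker.1 (e.symm ▸ hx)

namespace Basic

variable {Y : Space S} {X : Sp S} {f : X ⟶ Y.obj} {B : Basic Y X f}

theorem ker_le_map {s s' : Finset B.K} (h : s ⊆ s') {J : (B.T s).left.IdealSheafData} (hJ : J ≤ B.ker s) :
    J.comap (B.tr h).left ≤ B.ker s' := by
  rw [← Scheme.IdealSheafData.le_map_iff_comap_le]
  refine hJ.trans (le_of_eq ?_)
  change (B.d s).left.ker = (B.d s').left.ker.map (B.tr h).left
  rw [Scheme.IdealSheafData.map_ker, ← Over.comp_left, B.d_tr]

theorem tr_refl (s : Finset B.K) : B.tr (Finset.Subset.refl s) = 𝟙 _ :=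
  (yon S).map_injective ((B.isPullback_T s).hom_ext
    (by rw [B.tr_pT, FinProd.re_refl, Category.comp_id, CategoryTheory.Functor.map_id, Category.id_comp])
    (by rw [← Functor.map_comp, B.tr_qT, CategoryTheory.Functor.map_id, Category.id_comp]))

theorem exists_node' [QuasiSeparatedSpace ↥S] (s : Finset B.K) {K : (B.T s).left.IdealSheafData}
    (hK : ∀ V, (K.ideal V).FG) (hle : K ≤ B.ker s) :
    ∃ J : {J : (B.T s).left.IdealSheafData // (∀ V, (J.ideal V).FG) ∧ J ≤ B.ker s ∧
      J.comap (B.r₁ s).left = J.comap (B.r₂ s).left}, K ≤ J.1 := by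
  obtain ⟨⟨s', J⟩, h, hle'⟩ := exists_node s hK hle
  cases h
  exact ⟨J, hle'⟩

theorem exists_ge_of_le [QuasiSeparatedSpace ↥S] (a : B.Node) {K : (B.T a.1).left.IdealSheafData}
    (hK : ∀ V, (K.ideal V).FG) (hle : K ≤ B.ker a.1) :
    ∃ n : B.Node, a ≤ n ∧ ∃ h : n.1 = a.1, K ≤ h ▸ n.2.1 := by
  obtain ⟨J, hJ⟩ := exists_node' a.1 (K := a.2.1 ⊔ K) (fun V => by
    rw [Scheme.IdealSheafData.ideal_sup]; exact Submodule.FG.sup (a.2.2.1 V) (hK V)) (sup_le a.2.2.2.1 hle)
  refine ⟨⟨a.1, J⟩, le_of_comap_le (Finset.Subset.refl _) ?_, rfl, (le_sup_right : K ≤ a.2.1 ⊔ K).trans hJ⟩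
  rw [tr_refl]
  change a.2.1.comap (𝟙 _) ≤ J.1
  rw [Scheme.IdealSheafData.comap_id]
  exact (le_sup_left : a.2.1 ≤ a.2.1 ⊔ K).trans hJ

theorem exists_ge [QuasiSeparatedSpace ↥S] (a b : B.Node) : ∃ n : B.Node, a ≤ n ∧ b ≤ n := by
  classical
  let ha : a.1 ⊆ a.1 ∪ b.1 := Finset.subset_union_left
  let hb : b.1 ⊆ a.1 ∪ b.1 := Finset.subset_union_right
  obtain ⟨J, hJ⟩ := exists_node' (a.1 ∪ b.1) (K := a.2.1.comap (B.tr ha).left ⊔ b.2.1.comap (B.tr hb).left)
    (fun V => by
      rw [Scheme.IdealSheafData.ideal_sup]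
      exact Submodule.FG.sup (fg_comap _ a.2.2.1 V) (fg_comap _ b.2.2.1 V))
    (sup_le (ker_le_map ha a.2.2.2.1) (ker_le_map hb b.2.2.2.1))
  exact ⟨⟨a.1 ∪ b.1, J⟩, le_of_comap_le ha (le_sup_left.trans hJ), le_of_comap_le hb (le_sup_right.trans hJ)⟩

theorem exists_node_finset [QuasiSeparatedSpace ↥S] (s : Finset B.K) : ∃ n : B.Node, n.1 = s := by
  obtain ⟨J, -⟩ := exists_node' (B := B) s (K := ⊥)
    (fun V => by rw [Scheme.IdealSheafData.ideal_bot]; exact Submodule.fg_bot) bot_le
  exact ⟨⟨s, J⟩, rfl⟩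

/-- The transition maps. -/
noncomputable def trZ {a b : B.Node} (h : a ≤ b) : Z b ⟶ Z a := h.snd.choose

theorem trZ_inc {a b : B.Node} (h : a ≤ b) : trZ h ≫ inc a = inc b ≫ FinProd.re B.ν h.fst := h.snd.choose_spec

/-- The map to a stage. -/
noncomputable def toZ (n : B.Node) : X ⟶ Z n := (exists_toZ n).choose

theorem toZ_inc (n : B.Node) : toZ n ≫ inc n = B.θW n.1 := (exists_toZ n).choose_spec

theorem toZ_trZ {a b : B.Node} (h : a ≤ b) : toZ b ≫ trZ h = toZ a :=
  (cancel_mono (inc a)).1 (by rw [Category.assoc, trZ_inc, ← Category.assoc, toZ_inc, B.θW_re, toZ_inc])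

instance isAffine_C (n : B.Node) : IsAffine (C n).left :=
  @isAffine_of_isAffineHom _ _ (subι (B.T n.1) n.2.1).left (inferInstanceAs (IsAffineHom n.2.1.subschemeι))
    (B.isAffine_T n.1)

theorem exists_dC (n : B.Node) : ∃ d : B.XU ⟶ C n, d ≫ subι (B.T n.1) n.2.1 = B.d n.1 ∧
    IsPullback B.πX ((yon S).map d) (toZ n) (pC n) := by
  obtain ⟨d, hd⟩ := (yon S).map_surjective ((isPullback_C n).lift (B.πX ≫ toZ n) ((yon S).map (B.d n.1))
    (by rw [Category.assoc, toZ_inc]; exact (B.d_pT n.1).symm))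
  have h1 : d ≫ subι (B.T n.1) n.2.1 = B.d n.1 :=
    (yon S).map_injective (by rw [Functor.map_comp, hd, (isPullback_C n).lift_snd])
  refine ⟨d, h1, IsPullback.of_bot ?_ (by rw [hd, (isPullback_C n).lift_fst]) (isPullback_C n)⟩
  rw [← Functor.map_comp, h1, toZ_inc]
  exact B.isPullback_d n.1

/-- The chart of the map to a stage. -/
noncomputable def dC (n : B.Node) : B.XU ⟶ C n := (exists_dC n).choose

theorem dC_ι (n : B.Node) : dC n ≫ subι (B.T n.1) n.2.1 = B.d n.1 := (exists_dC n).choose_spec.1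

theorem isPullback_dC (n : B.Node) : IsPullback B.πX ((yon S).map (dC n)) (toZ n) (pC n) :=
  (exists_dC n).choose_spec.2

theorem exists_trC {a b : B.Node} (h : a ≤ b) : ∃ r : C b ⟶ C a,
    r ≫ subι (B.T a.1) a.2.1 = subι (B.T b.1) b.2.1 ≫ B.tr h.fst ∧
      IsPullback (pC b) ((yon S).map r) (trZ h) (pC a) := by
  obtain ⟨r, hr⟩ := (yon S).map_surjective ((isPullback_C a).lift (pC b ≫ trZ h)
    ((yon S).map (subι (B.T b.1) b.2.1 ≫ B.tr h.fst)) (by
      rw [Category.assoc, trZ_inc, ← Category.assoc, (isPullback_C b).w, Category.assoc, ← B.tr_pT h.fst,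
        Functor.map_comp, Category.assoc]))
  have h1 : r ≫ subι (B.T a.1) a.2.1 = subι (B.T b.1) b.2.1 ≫ B.tr h.fst :=
    (yon S).map_injective (by rw [Functor.map_comp, hr, (isPullback_C a).lift_snd])
  refine ⟨r, h1, IsPullback.of_bot ?_ (by rw [hr, (isPullback_C a).lift_fst]) (isPullback_C a)⟩
  rw [← Functor.map_comp, h1, Functor.map_comp, trZ_inc]
  exact (isPullback_C b).paste_vert (B.isPullback_tr h.fst)

/-- The chart of a transition map. -/
noncomputable def trC {a b : B.Node} (h : a ≤ b) : C b ⟶ C a := (exists_trC h).choose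

theorem trC_ι {a b : B.Node} (h : a ≤ b) :
    trC h ≫ subι (B.T a.1) a.2.1 = subι (B.T b.1) b.2.1 ≫ B.tr h.fst := (exists_trC h).choose_spec.1

theorem isPullback_trC {a b : B.Node} (h : a ≤ b) : IsPullback (pC b) ((yon S).map (trC h)) (trZ h) (pC a) :=
  (exists_trC h).choose_spec.2

theorem trC_trans {a b c : B.Node} (h : a ≤ b) (h' : b ≤ c) : trC h' ≫ trC h = trC (h.trans h') := by
  refine (yon S).map_injective ((isPullback_C a).hom_ext ?_ ?_)
  · rw [Functor.map_comp, Category.assoc, ← (isPullback_trC h).w, ← Category.assoc, ← (isPullback_trC h').w,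
      ← (isPullback_trC (h.trans h')).w, Category.assoc]
    congr 1
    exact (cancel_mono (inc a)).1 (by
      rw [Category.assoc, trZ_inc, ← Category.assoc, trZ_inc, Category.assoc, FinProd.re_trans, trZ_inc])
  · rw [← Functor.map_comp, ← Functor.map_comp, trC_ι (h.trans h'), Category.assoc, trC_ι, ← Category.assoc,
      trC_ι h', Category.assoc]
    congr 2
    exact (yon S).map_injective ((B.isPullback_T a.1).hom_ext
      (by rw [Functor.map_comp, Category.assoc, B.tr_pT, ← Category.assoc, B.tr_pT, Category.assoc,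
        FinProd.re_trans, B.tr_pT])
      (by rw [← Functor.map_comp, ← Functor.map_comp, Category.assoc, B.tr_qT, B.tr_qT, B.tr_qT]))

theorem dC_trC {a b : B.Node} (h : a ≤ b) : dC b ≫ trC h = dC a :=
  (yon S).map_injective ((isPullback_C a).hom_ext
    (by rw [Functor.map_comp, Category.assoc, ← (isPullback_trC h).w, ← Category.assoc, ← (isPullback_dC b).w,
      Category.assoc, toZ_trZ, (isPullback_dC a).w])
    (by rw [← Functor.map_comp, ← Functor.map_comp, Category.assoc, trC_ι, reassoc_of% (dC_ι b), B.d_tr, dC_ι]))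

theorem repWith_trZ_affine {a b : B.Node} (h : a ≤ b) : RepWith @IsAffineHom (trZ h) := by
  have := Groth.Agent.AlgSp.isLocallySurjective_of_etale_surjective (pC a) (etale_pC a) (surjective_pC a)
  exact Groth.Agent.AlgSp.repWith_isAffineHom_of_baseChange (trZ h) (pC a) (isPullback_trC h)
    ((repWith_yon_map_iff _ _).2 (isAffineHom_of_isAffine (trC h).left))

variable (B) in
/-- The system of good stages. -/
noncomputable def system (Good : B.Node → Prop) : {n : B.Node // Good n}ᵒᵖ ⥤ Sp S where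
  obj n := Z n.unop.1
  map {a b} φ := trZ (leOfHom φ.unop)
  map_id n := (cancel_mono (inc n.unop.1)).1 (by
    refine (trZ_inc _).trans ?_
    rw [FinProd.re_refl, Category.comp_id, Category.id_comp])
  map_comp {a b c} φ ψ := (cancel_mono (inc c.unop.1)).1 (by
    refine (trZ_inc _).trans ?_
    rw [Category.assoc, trZ_inc, ← Category.assoc, trZ_inc, Category.assoc, FinProd.re_trans])

variable (B) in
/-- The structure maps of the system. -/
noncomputable def systemT (Good : B.Node → Prop) : B.system Good ⟶ (Functor.const _).obj Y.obj where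
  app n := inc n.unop.1 ≫ B.base n.unop.1.1
  naturality a b φ := by
    change trZ (leOfHom φ.unop) ≫ inc b.unop.1 ≫ B.base b.unop.1.1 = (inc a.unop.1 ≫ B.base a.unop.1.1) ≫ 𝟙 _
    rw [← Category.assoc, trZ_inc, Category.assoc, FinProd.re_base, Category.comp_id]

variable (B) in
/-- The cone of the system. -/
noncomputable def systemCone (Good : B.Node → Prop) : Cone (B.system Good) where
  pt := X
  π := { app := fun n => toZ n.unop.1
         naturality := fun a b φ => by
           change 𝟙 X ≫ toZ b.unop.1 = toZ a.unop.1 ≫ trZ (leOfHom φ.unop)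
           rw [Category.id_comp, toZ_trZ] }

theorem directed_good [QuasiSeparatedSpace ↥S] {Good : B.Node → Prop} (hcof : ∀ n, ∃ m, n ≤ m ∧ Good m) :
    IsDirected {n : B.Node // Good n} (fun a b => a ≤ b) :=
  ⟨fun a b => by
    obtain ⟨n, h1, h2⟩ := exists_ge a.1 b.1
    obtain ⟨m, hm, hg⟩ := hcof n
    exact ⟨⟨m, hg⟩, h1.trans hm, h2.trans hm⟩⟩

theorem nonempty_good [QuasiSeparatedSpace ↥S] {Good : B.Node → Prop} (hcof : ∀ n, ∃ m, n ≤ m ∧ Good m) :
    Nonempty {n : B.Node // Good n} := by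
  obtain ⟨n, -⟩ := exists_node_finset (B := B) ∅
  obtain ⟨m, -, hg⟩ := hcof n
  exact ⟨⟨m, hg⟩⟩

set_option maxHeartbeats 1000000 in
/-- A cofinal system of stages has the space as its limit. -/
theorem isLimit_system [QuasiSeparatedSpace ↥S] {Good : B.Node → Prop} (hcof : ∀ n, ∃ m, n ≤ m ∧ Good m) :
    Nonempty (IsLimit (B.systemCone Good)) := by
  classical
  let N := {n : B.Node // Good n}
  let D := B.system Good
  have : Nonempty N := nonempty_good hcof
  have : IsDirectedOrder N := directed_good hcof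
  obtain ⟨n₀⟩ := (inferInstance : Nonempty N)
  have hDa : ∀ (a b : Nᵒᵖ) (φ : a ⟶ b), IsAffineMor (D.map φ) := fun a b φ =>
    (Groth.Agent.AlgSp.isAffineMor_iff _).2 (repWith_trZ_affine (leOfHom φ.unop))
  let c := limit.cone D
  let hc : IsLimit c := limit.isLimit D
  let θ := hc.lift (B.systemCone Good)
  have hθ : ∀ n, θ ≫ c.π.app n = toZ n.unop.1 := fun n => hc.fac _ n
  let g : (yon S).obj (C n₀.1) ⟶ D.obj (op n₀) := pC n₀.1
  obtain ⟨L, l, q, ⟨hL⟩, hq₀, hq, hl, sq⟩ := Groth.Agent.AlgSp.LimSp.exists_isPullback hDa g c hc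
  obtain ⟨u, hu⟩ := (yon S).map_surjective (sq.lift (B.πX ≫ θ) ((yon S).map (dC n₀.1))
    (by rw [Category.assoc, hθ]; exact (isPullback_dC n₀.1).w))
  have hul : (yon S).map u ≫ l = B.πX ≫ θ := by rw [hu, sq.lift_fst]
  have huq : u ≫ q = dC n₀.1 := (yon S).map_injective (by rw [Functor.map_comp, hu, sq.lift_snd])
  have sX : IsPullback B.πX ((yon S).map u) θ l := by
    refine IsPullback.of_bot ?_ hul.symm sq
    rw [← Functor.map_comp, huq, hθ]
    exact isPullback_dC n₀.1
  -- the pieces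
  have hle : ∀ j : Over (op n₀), n₀.1 ≤ j.left.unop.1 := fun j => leOfHom j.hom.unop
  have hpiece : ∀ j : Over (op n₀), ∃ e : (Groth.Agent.AlgSp.LimSp.sys hDa g).obj j ≅ C j.left.unop.1,
      (yon S).map e.inv ≫ (Groth.Agent.AlgSp.LimSp.sysFst hDa g).app j = pC j.left.unop.1 ∧
        e.inv ≫ Groth.Agent.AlgSp.LimSp.sysSnd hDa g j = trC (hle j) := fun j => by
    have s1 := (Groth.Agent.AlgSp.LimSp.repWith_map hDa j.hom).1.isPullback g
    have s2 : IsPullback (pC j.left.unop.1) ((yon S).map (trC (hle j))) (D.map j.hom) g := isPullback_trC (hle j)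
    refine ⟨(yon S).preimageIso (s1.isoIsPullback _ _ s2), ?_, (yon S).map_injective ?_⟩
    · rw [Functor.preimageIso_inv, Functor.map_preimage]
      exact IsPullback.isoIsPullback_inv_fst _ _ _ _
    · rw [Functor.map_comp, Functor.preimageIso_inv, Functor.map_preimage]
      exact IsPullback.isoIsPullback_inv_snd _ _ _ _
  choose e he₁ he₂ using hpiece
  have huπ : ∀ j, u ≫ L.π.app j = dC j.left.unop.1 ≫ (e j).inv := fun j => by
    refine (yon S).map_injective (((Groth.Agent.AlgSp.LimSp.repWith_map hDa j.hom).1.isPullback g).hom_ext ?_ ?_)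
    · rw [Functor.map_comp, Category.assoc]
      refine (congrArg ((yon S).map u ≫ ·) (hl j)).symm.trans ?_
      rw [← Category.assoc, hul, Category.assoc, hθ, Functor.map_comp, Category.assoc]
      exact ((isPullback_dC j.left.unop.1).w).trans (congrArg (_ ≫ ·) (he₁ j).symm)
    · rw [← Functor.map_comp, ← Functor.map_comp, Category.assoc, Category.assoc]
      refine congrArg _ ?_
      refine (congrArg (u ≫ ·) (hq j)).trans (huq.trans ?_)
      exact (dC_trC (hle j)).symm.trans (congrArg (_ ≫ ·) (he₂ j).symm)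
  have hmap : ∀ {j k : Over (op n₀)} (a : j ⟶ k),
      (Groth.Agent.AlgSp.LimSp.sys hDa g).map a ≫ (e k).hom = (e j).hom ≫ trC (leOfHom a.left.unop) := fun {j k} a => by
    rw [← cancel_epi (e j).inv, Iso.inv_hom_id_assoc, ← cancel_mono (e k).inv, Category.assoc, Category.assoc,
      Iso.hom_inv_id, Category.comp_id]
    refine (yon S).map_injective (((Groth.Agent.AlgSp.LimSp.repWith_map hDa k.hom).1.isPullback g).hom_ext ?_ ?_)
    · rw [Functor.map_comp, Functor.map_comp, Category.assoc, Category.assoc]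
      refine (congrArg ((yon S).map (e j).inv ≫ ·) ((Groth.Agent.AlgSp.LimSp.sysFst hDa g).naturality a)).trans ?_
      rw [← Category.assoc, he₁]
      exact ((isPullback_trC (leOfHom a.left.unop)).w).trans (congrArg (_ ≫ ·) (he₁ k).symm)
    · rw [← Functor.map_comp, ← Functor.map_comp, Category.assoc, Category.assoc]
      refine congrArg _ ?_
      refine (congrArg ((e j).inv ≫ ·) (Groth.Agent.AlgSp.LimSp.map_sysSnd hDa g a)).trans ?_
      exact (he₂ j).trans ((trC_trans _ _).symm.trans (congrArg (_ ≫ ·) (he₂ k).symm))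
  have : IsAffine L.pt.left := isAffine_of_isAffineHom q.left
  have hev : ∀ j, u.left.appTop.hom.comp (L.π.app j).left.appTop.hom =
      (dC j.left.unop.1).left.appTop.hom.comp (e j).inv.left.appTop.hom := fun j => by
    rw [← CommRingCat.hom_comp, ← CommRingCat.hom_comp, ← Scheme.Hom.comp_appTop, ← Scheme.Hom.comp_appTop,
      ← Over.comp_left, ← Over.comp_left, huπ]
  have hsurj : Function.Surjective u.left.appTop := fun b => by
    obtain ⟨k, T, fst, snd, d, sT, hd, hd', a, ha⟩ := B.through b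
    obtain ⟨nk, hnk⟩ := exists_node_finset (B := B) {k}
    obtain ⟨n, h₀, hk⟩ := exists_ge n₀.1 nk
    obtain ⟨m, hnm, hm⟩ := hcof n
    have hk' : k ∈ m.1 := (hk.trans hnm).fst (hnk ▸ Finset.mem_singleton_self k)
    obtain ⟨p, hp⟩ := (yon S).map_surjective (sT.lift (B.pT m.1 ≫ FinProd.proj B.ν m.1 k hk')
      ((yon S).map (B.qT m.1)) (by rw [Category.assoc, FinProd.proj_ν]; exact (B.isPullback_T m.1).w))
    have hdp : B.d m.1 ≫ p = d := (yon S).map_injective (sT.hom_ext
      (by rw [Functor.map_comp, Category.assoc, hp, sT.lift_fst, ← Category.assoc, B.d_pT, Category.assoc,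
        B.θW_proj]; exact hd'.symm)
      (by rw [Functor.map_comp, Category.assoc, hp, sT.lift_snd, ← Functor.map_comp, ← Functor.map_comp,
        B.d_qT, hd]))
    let j : Over (op n₀) := Over.mk (homOfLE (show n₀ ≤ (⟨m, hm⟩ : N) from h₀.trans hnm)).op
    refine ⟨(L.π.app j).left.appTop ((e j).hom.left.appTop ((subι (B.T m.1) m.2.1 ≫ p).left.appTop a)), ?_⟩
    refine (RingHom.congr_fun (hev j) _).trans ?_
    change ((subι (B.T m.1) m.2.1 ≫ p).left.appTop ≫ (e j).hom.left.appTop ≫ (e j).inv.left.appTop ≫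
      (dC m).left.appTop) a = b
    rw [← Scheme.Hom.comp_appTop, ← Scheme.Hom.comp_appTop, ← Scheme.Hom.comp_appTop, ← Over.comp_left,
      ← Over.comp_left, ← Over.comp_left, Category.assoc, Category.assoc, Iso.inv_hom_id_assoc]
    refine Eq.trans ?_ ha
    rw [show dC m ≫ subι (B.T m.1) m.2.1 ≫ p = d by rw [reassoc_of% (dC_ι m), hdp]]
  have hinj : Function.Injective u.left.appTop := (injective_iff_map_eq_zero _).2 fun x hx => by
    have : ∀ {i k : Over (op n₀)} (a : i ⟶ k),
        IsAffineHom ((Groth.Agent.AlgSp.LimSp.sys hDa g ⋙ Over.forget S).map a) := fun a =>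
      Groth.Agent.AlgSp.LimSp.isAffineHom_sys hDa g a
    have haff : ∀ j, IsAffine ((Groth.Agent.AlgSp.LimSp.sys hDa g ⋙ Over.forget S).obj j) := fun j =>
      @isAffine_of_isAffineHom _ _ (Groth.Agent.AlgSp.LimSp.sysSnd hDa g j).left
        (Groth.Agent.AlgSp.LimSp.isAffineHom_sysSnd hDa g j) inferInstance
    have : ∀ j, CompactSpace ((Groth.Agent.AlgSp.LimSp.sys hDa g ⋙ Over.forget S).obj j) := fun j => by
      have := haff j; infer_instance
    have : ∀ j, QuasiSeparatedSpace ((Groth.Agent.AlgSp.LimSp.sys hDa g ⋙ Over.forget S).obj j) := fun j => by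
      have := haff j; infer_instance
    obtain ⟨j, t, ht⟩ := exists_appTop_π_eq_of_isLimit (Groth.Agent.AlgSp.LimSp.sys hDa g ⋙ Over.forget S) _ hL x
    let n := j.left.unop.1
    let t' : Γ((C n).left, ⊤) := (e j).inv.left.appTop t
    have ht' : (dC n).left.appTop t' = 0 := by
      refine (RingHom.congr_fun (hev j) t).symm.trans ?_
      exact (congrArg u.left.appTop ht).symm.trans hx
    have : IsClosedImmersion (subι (B.T n.1) n.2.1).left := inferInstanceAs (IsClosedImmersion n.2.1.subschemeι)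
    obtain ⟨t₀, ht₀⟩ := (subι (B.T n.1) n.2.1).left.app_surjective ⊤ (isAffineOpen_top _) t'
    have hd0 : (B.d n.1).left.appTop t₀ = 0 := by
      rw [← dC_ι, Over.comp_left, Scheme.Hom.comp_appTop]
      exact (congrArg (dC n).left.appTop ht₀).trans ht'
    obtain ⟨⟨s', J⟩, hnn, hs', hJ⟩ := exists_ge_of_le n (fg_ofIdealTop_span {t₀})
      (ofIdealTop_le_ker (B.d n.1).left fun y hy => by rw [Finset.mem_singleton.1 hy, hd0])
    cases hs'
    have hkill : (trC hnn).left.appTop t' = 0 := by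
      rw [← ht₀]
      change ((subι (B.T n.1) n.2.1).left.appTop ≫ (trC hnn).left.appTop) t₀ = 0
      rw [← Scheme.Hom.comp_appTop, ← Over.comp_left, trC_ι, tr_refl, Category.comp_id]
      exact appTop_eq_zero_of_mem J.1 (hJ _ ((Scheme.IdealSheafData.equivOfIsAffine.apply_symm_apply
        (Ideal.span (({t₀} : Finset Γ((B.T n.1).left, ⊤)) : Set Γ((B.T n.1).left, ⊤)))).ge
        (Ideal.subset_span (Finset.mem_singleton_self t₀))))
    obtain ⟨m, hm', hm⟩ := hcof ⟨n.1, J⟩
    let j' : Over (op n₀) :=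
      Over.mk (homOfLE (show n₀ ≤ (⟨m, hm⟩ : N) from ((hle j).trans hnn).trans hm')).op
    let a : j' ⟶ j := Over.homMk (homOfLE (show j.left.unop ≤ (⟨m, hm⟩ : N) from hnn.trans hm')).op
      (Subsingleton.elim _ _)
    rw [ht, ← ((Over.forget S).mapCone L).w a, Scheme.Hom.comp_appTop, CategoryTheory.comp_apply]
    have hz : ((Groth.Agent.AlgSp.LimSp.sys hDa g ⋙ Over.forget S).map a).appTop t = 0 := by
      have et : t = (e j).hom.left.appTop t' := by
        change t = ((e j).inv.left.appTop ≫ (e j).hom.left.appTop) t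
        rw [← Scheme.Hom.comp_appTop, ← Over.comp_left, Iso.hom_inv_id]
        rfl
      rw [et]
      change ((e j).hom.left.appTop ≫ ((Groth.Agent.AlgSp.LimSp.sys hDa g).map a).left.appTop) t' = 0
      rw [← Scheme.Hom.comp_appTop, ← Over.comp_left, hmap a, ← trC_trans hnn hm', ← Category.assoc,
        Over.comp_left, Scheme.Hom.comp_appTop, CategoryTheory.comp_apply, hkill, map_zero]
    rw [hz, map_zero]
  have hiu : IsIso u.left := by
    have : IsIso u.left.appTop := (ConcreteCategory.isIso_iff_bijective _).2 ⟨hinj, hsurj⟩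
    have : IsIso (Spec.map u.left.appTop) := inferInstance
    exact ((MorphismProperty.isomorphisms Scheme).arrow_mk_iso_iff (arrowIsoSpecΓOfIsAffine u.left)).2 this
  have : IsIso ((Over.forget S).map u) := hiu
  have : IsIso u := isIso_of_reflects_iso _ (Over.forget S)
  have hle' : RepWith @Etale l := MorphismProperty.of_isPullback sq.flip (etale_pC n₀.1)
  have hls : RepWith @Surjective l := MorphismProperty.of_isPullback sq.flip (surjective_pC n₀.1)
  have := Groth.Agent.AlgSp.isLocallySurjective_of_etale_surjective l hle' hls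
  have : Mono θ := Groth.Agent.AlgSp.mono_of_isLocallySurjective_baseChange θ l sX
  have : Epi l := Sheaf.epi_of_isLocallySurjective l
  have : Epi (B.πX ≫ θ) := by rw [← hul]; exact epi_comp _ _
  have : Epi θ := epi_of_epi B.πX θ
  have : IsIso θ := isIso_of_mono_of_epi θ
  exact ⟨hc.ofPointIso⟩

end Basic

end Groth.Agent.AlgSpSpec
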