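import Mathlib.CategoryTheory.Limits.Shapes.Pullback.IsPullback.Basic
import Mathlib.CategoryTheory.Filtered.Final
import Mathlib.CategoryTheory.Comma.Over.Basic

/-!
# Base change of a cofiltered system to an object over one stage
-/

universe u v w

open CategoryTheory CategoryTheory.Limits

set_option autoImplicit false
set_option backward.isDefEq.respectTransparency false
set_option backward.isDefEq.respectTransparency.types false

namespace Groth.Agent.AlgSpSpec.Tail

variable {C : Type u} [Category.{v} C] [HasPullbacks C] {I : Type w} [Category.{w} I] (D : I ⥤ C) {i : I}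
  {U : C} (j : U ⟶ D.obj i)

/-- The system over an object over the stage `i`. -/
noncomputable def sys : Over i ⥤ C where
  obj a := pullback (D.map a.hom) j
  map {a b} φ := pullback.lift (pullback.fst _ _ ≫ D.map φ.left) (pullback.snd _ _) (by
    rw [Category.assoc, ← D.map_comp, Over.w φ, pullback.condition])
  map_id a := by apply pullback.hom_ext <;> simp
  map_comp φ ψ := by apply pullback.hom_ext <;> simp

/-- The projection to the system. -/
noncomputable def toSys : sys D j ⟶ Over.forget i ⋙ D where
  app a := pullback.fst _ _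
  naturality a b φ := by simp [sys]

@[simp] theorem toSys_app (a : Over i) : (toSys D j).app a = pullback.fst (D.map a.hom) j := rfl

theorem map_snd {a b : Over i} (φ : a ⟶ b) :
    (sys D j).map φ ≫ pullback.snd (D.map b.hom) j = pullback.snd (D.map a.hom) j := pullback.lift_snd _ _ _

theorem isPullback_map {a b : Over i} (φ : a ⟶ b) :
    IsPullback ((toSys D j).app a) ((sys D j).map φ) (D.map φ.left) ((toSys D j).app b) := by
  refine IsPullback.of_bot ?_ ((toSys D j).naturality φ).symm (IsPullback.of_hasPullback (D.map b.hom) j)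
  rw [map_snd, ← D.map_comp, Over.w φ]
  exact IsPullback.of_hasPullback (D.map a.hom) j

theorem isIso_snd_top : IsIso (pullback.snd (D.map (Over.mk (𝟙 i)).hom) j) := by
  have : IsIso (D.map (Over.mk (𝟙 i)).hom) := by
    change IsIso (D.map (𝟙 i))
    rw [D.map_id]
    infer_instance
  infer_instance

theorem exists_limitCone [IsCofilteredOrEmpty I] (c : Cone D) (hc : IsLimit c) {X : C} {p : X ⟶ c.pt} {q : X ⟶ U}
    (sq : IsPullback p q (c.π.app i) j) :
    ∃ (π : (Functor.const (Over i)).obj X ⟶ sys D j), Nonempty (IsLimit (Cone.mk X π)) ∧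
      ∀ a, π.app a ≫ (toSys D j).app a = p ≫ c.π.app a.left := by
  let π : (Functor.const (Over i)).obj X ⟶ sys D j :=
    { app := fun a => pullback.lift (p ≫ c.π.app a.left) q (by rw [Category.assoc, c.w]; exact sq.w)
      naturality := fun a b φ => by apply pullback.hom_ext <;> simp [sys] }
  have hfst : ∀ a, π.app a ≫ pullback.fst (D.map a.hom) j = p ≫ c.π.app a.left := fun a => pullback.lift_fst _ _ _
  have hcw : IsLimit (c.whisker (Over.forget i)) :=
    (Functor.Initial.isLimitWhiskerEquiv (Over.forget i) c).symm hc
  let top : Over i := Over.mk (𝟙 i)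
  have key : ∀ s : Cone (sys D j), ∃ m : s.pt ⟶ X, ∀ a, m ≫ π.app a = s.π.app a := fun s => by
    let sD : Cone (Over.forget i ⋙ D) := (Cone.postcompose (toSys D j)).obj s
    have hsnd : ∀ a : Over i, s.π.app a ≫ pullback.snd (D.map a.hom) j =
        s.π.app top ≫ pullback.snd (D.map top.hom) j := fun a => by
      rw [← s.w (Over.homMk a.hom (Category.comp_id _) : a ⟶ top), Category.assoc, map_snd]
    have hl : hcw.lift sD ≫ c.π.app i = (s.π.app top ≫ pullback.snd (D.map top.hom) j) ≫ j := by
      refine (hcw.fac sD top).trans ?_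
      change s.π.app top ≫ pullback.fst (D.map top.hom) j = _
      rw [Category.assoc, ← pullback.condition]
      simp [top]
    refine ⟨sq.lift (hcw.lift sD) _ hl, fun a => pullback.hom_ext ?_ ?_⟩
    · rw [Category.assoc, hfst, ← Category.assoc, sq.lift_fst]
      exact hcw.fac sD a
    · rw [Category.assoc, show π.app a ≫ pullback.snd (D.map a.hom) j = q from pullback.lift_snd _ _ _,
        sq.lift_snd]
      exact (hsnd a).symm
  choose m hm using key
  refine ⟨π, ⟨{ lift := m, fac := hm, uniq := fun s n hn => ?_ }⟩, hfst⟩
  refine sq.hom_ext (hcw.hom_ext fun a => ?_) ?_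
  · change (n ≫ p) ≫ c.π.app a.left = (m s ≫ p) ≫ c.π.app a.left
    rw [Category.assoc, Category.assoc, ← hfst a]
    simp only [← Category.assoc]
    exact congrArg (· ≫ _) ((hn a).trans (hm s a).symm)
  · have hq : π.app top ≫ pullback.snd (D.map top.hom) j = q := pullback.lift_snd _ _ _
    rw [← hq]
    simp only [← Category.assoc]
    exact congrArg (· ≫ _) ((hn top).trans (hm s top).symm)

end Groth.Agent.AlgSpSpec.Tail
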