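import Groth.Agent.AlgSpSpec.Lift
import Groth.Agent.AlgSpSpec.Sym
import Groth.Agent.AlgSpEN.ZMT.UnitQC
import Groth.Agent.AlgSpB.FPCover.Cover
import Groth.Agent.AlgSpB.SubQC.FinSub
import Mathlib.AlgebraicGeometry.Morphisms.FinitePresentation

/-!
# Functions of an affine morphism come from affine morphisms of finite presentation
-/

universe u

open CategoryTheory CategoryTheory.Limits AlgebraicGeometry Opposite

set_option backward.isDefEq.respectTransparency false
set_option backward.isDefEq.respectTransparency.types false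
set_option autoImplicit false

namespace Groth.Agent.AlgSpSpec

open _root_.AlgSp
open Groth.Agent.AlgSpQC
open Groth.Agent.AlgSpEN.ZMT (u1 smul_u1 rs_u1 isQuasicoherent_unit)

variable {S : Scheme.{u}} [QuasiSeparatedSpace ↥S] {Y : Space S} {N : Sp S}

set_option maxHeartbeats 1000000 in
/-- Every function on the chart of an affine morphism to a qcqs space comes from an affine morphism of finite
presentation through which the morphism factors. -/
theorem exists_affine_fp_through {φ : N ⟶ Y.obj} (haff : IsAffineMor φ) (hν : Representable φ)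
    (hqc : IsQuasiCompactSp Y.obj) (hqs : IsQuasiSeparatedSp Y.obj) (E₀ : Aff Y.obj)
    (hs₀ : RepWith @Surjective E₀.E.obj.hom) (b : gr (bcO hν E₀.E)) :
    ∃ (P : Sp S) (θ : N ⟶ P) (νP : P ⟶ Y.obj), θ ≫ νP = φ ∧ IsAlgSpace P ∧
      RepWith @IsAffineHom νP ∧ RepWith @LocallyOfFinitePresentation νP ∧
      ∃ (T : Over S) (fst : (yon S).obj T ⟶ P) (snd : T ⟶ E₀.E.obj.left) (d : (bcO hν E₀.E).obj.left ⟶ T),
        IsPullback fst ((yon S).map snd) νP E₀.E.obj.hom ∧ d ≫ snd = EtOver.bcπ hν E₀.E ∧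
        (yon S).map d ≫ fst = (bcO hν E₀.E).obj.hom ≫ θ ∧ ∃ a : Γ(T.left, ⊤), d.left.appTop a = b := by
  classical
  have := isQuasicoherent_unit (X := N)
  have : IsAffine E₀.E.obj.left.left := E₀.isAffine
  let M := (pushModEt hν).obj (unitModEt N)
  have : M.IsQuasicoherent := isQuasicoherent_push_affine haff (unitModEt N)
  obtain ⟨J, hJ, -, hJfg, hJb⟩ := AlgSpB.SubQC.exists_fg_le (M := M) hqc hqs
    (AlgSpB.SubQC.gen_topSub (M := M)) (κ := PUnit.{u + 1}) (fun _ => E₀.E) (fun _ => E₀.isAffine)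
    (fun _ => ((pushSect hν (unitModEt N) E₀.E).trans (u1 (bcO hν E₀.E)).symm).symm b) (fun _ => trivial)
  have := AlgSpB.SubQC.isQuasicoherent_of_gen hJ
  have := AlgSpB.SubQC.isFiniteType_mod hJ hJfg
  obtain ⟨G, π₀, hG, hπ₀⟩ := AlgSpB.FPCover.exists_fp_cover hqc hqs J.mod
  have : G.IsQuasicoherent := inferInstance
  let π := π₀ ≫ J.ι
  have hGfp : ∀ E : Aff Y.obj, Module.FinitePresentation (gr E.E) (sectModEt G E.E) := fun E =>
    finitePresentation_sections E.E
  have hGf : FiniteOnAff G := fun E => have := hGfp E; inferInstance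
  let F := symFam G hGf
  let v : ∀ E : EtOver Y.obj, sectModEt M E ≃+ gr (bcO hν E) := fun E =>
    (pushSect hν (unitModEt N) E).trans (u1 (bcO hν E)).symm
  have hvs : ∀ (E : EtOver Y.obj) (a : gr E) (x : sectModEt M E), v E (a • x) = gπ hν E a * v E x := by
    intro E a x
    obtain ⟨y, rfl⟩ := (v E).symm.surjective x
    apply (u1 (bcO hν E)).injective
    change (u1 (bcO hν E)) ((u1 (bcO hν E)).symm (pushSect hν (unitModEt N) E (a • (v E).symm y))) = _
    rw [AddEquiv.apply_symm_apply, pushSect_smul, AddEquiv.apply_symm_apply, ← smul_u1]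
    rfl
  have hvr : ∀ {E W : EtOver Y.obj} (g : W ⟶ E) (x : sectModEt M E),
      v W (rs M g x) = gm (bcM hν g) (v E x) := by
    intro E W g x
    obtain ⟨y, rfl⟩ := (v E).symm.surjective x
    apply (u1 (bcO hν W)).injective
    change (u1 (bcO hν W)) ((u1 (bcO hν W)).symm (pushSect hν (unitModEt N) W (rs M g ((v E).symm y)))) = _
    rw [AddEquiv.apply_symm_apply, pushSect_rs, AddEquiv.apply_symm_apply, ← rs_u1]
    rfl
  have hψ : ∀ E : Aff Y.obj, ∃ h : F.A E →+* gr (bcO hν E.E), h.comp (F.str E).hom = gπ hν E.E ∧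
      ∀ m, h (symι G hGf E m) = v E.E (hs π E.E m) := fun E =>
    exists_symHom G hGf E (gπ hν E.E) ((v E.E).toAddMonoidHom.comp (hs π E.E).toAddMonoidHom) fun a m =>
      (congrArg (v E.E) ((hs π E.E).map_smul a m)).trans (hvs _ a _)
  choose ψ hψ₁ hψ₂ using hψ
  let d₀ : ∀ E : Aff Y.obj, (bcO hν E.E).obj.left.left ⟶ F.TE E := fun E =>
    (bcO hν E.E).obj.left.left.toSpecΓ ≫ Spec.map (CommRingCat.ofHom (ψ E))
  have hd₀ : ∀ E, d₀ E ≫ F.tY E = (EtOver.bcπ hν E.E).left := fun E => by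
    have e : F.str E ≫ CommRingCat.ofHom (ψ E) = (EtOver.bcπ hν E.E).left.appTop :=
      CommRingCat.hom_ext (hψ₁ E)
    change ((bcO hν E.E).obj.left.left.toSpecΓ ≫ Spec.map _) ≫ Spec.map _ ≫ E.E.obj.left.left.isoSpec.inv = _
    rw [Category.assoc, ← Spec.map_comp_assoc, e, ← Scheme.toSpecΓ_naturality_assoc]
    change _ ≫ E.E.obj.left.left.isoSpec.hom ≫ _ = _
    rw [Iso.hom_inv_id, Category.comp_id]
  let L : LiftData hν F :=
    { d := fun E => Over.homMk (d₀ E) (by
        change d₀ E ≫ F.tY E ≫ E.E.obj.left.hom = _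
        rw [reassoc_of% (hd₀ E), Over.w (EtOver.bcπ hν E.E)]
        rfl)
      d_tYO := fun E => Over.OverMorphism.ext (hd₀ E)
      nat := fun {E W} g => Over.OverMorphism.ext (by
        have e : F.map g ≫ CommRingCat.ofHom (ψ W) = CommRingCat.ofHom (ψ E) ≫ (bcM hν g).hom.left.left.appTop := by
          refine CommRingCat.hom_ext (symHom_ext G hGf E (RingHom.ext fun a => ?_) fun m => ?_)
          · change ψ W ((symMap G hGf g).hom ((symStr G hGf E).hom a)) = gm (bcM hν g) (ψ E ((symStr G hGf E).hom a))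
            rw [symMap_str]
            exact (RingHom.congr_fun (hψ₁ W) _).trans ((gπ_gm hν g a).trans
              (congrArg (gm (bcM hν g)) (RingHom.congr_fun (hψ₁ E) a).symm))
          · change ψ W ((symMap G hGf g).hom (symι G hGf E m)) = gm (bcM hν g) (ψ E (symι G hGf E m))
            rw [symMap_ι, hψ₂, hψ₂, hs_rs, hvr]
        change (bcM hν g).hom.left.left ≫ (bcO hν E.E).obj.left.left.toSpecΓ ≫ Spec.map _ =
          ((bcO hν W.E).obj.left.left.toSpecΓ ≫ Spec.map _) ≫ Spec.map (F.map g)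
        rw [Category.assoc, ← Spec.map_comp, e, Spec.map_comp, Scheme.toSpecΓ_naturality_assoc]) }
  obtain ⟨D⟩ := exists_specData F E₀
  obtain ⟨θ, hθ, sq⟩ := L.exists_lift D hs₀
  have hfpY : LocallyOfFinitePresentation (F.tY E₀) := by
    have : LocallyOfFinitePresentation (Spec.map (F.str E₀)) :=
      (HasRingHomProperty.Spec_iff (P := @LocallyOfFinitePresentation)).2
        (symStr_finitePresentation G hGf E₀ (hGfp E₀))
    change LocallyOfFinitePresentation (Spec.map (F.str E₀) ≫ E₀.E.obj.left.left.isoSpec.inv)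
    infer_instance
  refine ⟨D.P, θ, D.νP, hθ, D.isAlgSpace, D.isAffineHom hs₀, D.repWith hs₀ @LocallyOfFinitePresentation hfpY,
    F.TO E₀, D.π, F.tYO E₀, L.d E₀, D.sq, L.d_tYO E₀, sq.w.symm, ?_⟩
  obtain ⟨x, hx⟩ := AlgSpB.FPCover.exists_mod_of_mem J (hJb PUnit.unit)
  obtain ⟨m, hm⟩ := hπ₀ E₀.E E₀.isAffine x
  refine ⟨(Scheme.ΓSpecIso (F.A E₀)).inv (symι G hGf E₀ m), ?_⟩
  change ((Scheme.ΓSpecIso (F.A E₀)).inv ≫ (d₀ E₀).appTop) (symι G hGf E₀ m) = b
  have e : (Scheme.ΓSpecIso (F.A E₀)).inv ≫ (d₀ E₀).appTop = CommRingCat.ofHom (ψ E₀) := by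
    change (Scheme.ΓSpecIso (F.A E₀)).inv ≫
      ((bcO hν E₀.E).obj.left.left.toSpecΓ ≫ Spec.map (CommRingCat.ofHom (ψ E₀))).appTop = _
    rw [Scheme.Hom.comp_appTop, Scheme.toSpecΓ_appTop, Scheme.ΓSpecIso_naturality]
    exact Iso.inv_hom_id_assoc (Scheme.ΓSpecIso (F.A E₀)) _
  rw [e]
  change ψ E₀ (symι G hGf E₀ m) = b
  rw [hψ₂, hs_comp, hm, hx, AddEquiv.apply_symm_apply]

end Groth.Agent.AlgSpSpec
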